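import Groth.Agent.EtAcyc.K168.ClaimDef
import Mathlib.RingTheory.Flat.Basic
import Mathlib.RingTheory.TensorProduct.Basic
import Mathlib.RingTheory.FiniteType
import Mathlib.RingTheory.IntegralClosure.IntegrallyClosed

/-!
# Good coordinates and the generic structure of families: the definitions
-/

set_option autoImplicit false
universe u

open TensorProduct

namespace K168.NiceDef

/-- Good coordinates: `D[x] → C` is finite, and all base changes of `C` to Noetherian normal domains `E` are normal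
domains, flat over `E` and containing `E[x]`. -/
structure Pre (D C : Type u) [CommRing D] [CommRing C] [Algebra D C] {m : ℕ} (x : Fin m → C) : Prop where
  finite : (MvPolynomial.aeval x : MvPolynomial (Fin m) D →ₐ[D] C).toRingHom.Finite
  bc : ∀ (E : Type u) [CommRing E] [IsDomain E] [IsNoetherianRing E] [IsIntegrallyClosed E] [Algebra D E],
    IsDomain (E ⊗[D] C) ∧ IsIntegrallyClosed (E ⊗[D] C) ∧ Module.Flat E (E ⊗[D] C) ∧
      Function.Injective (MvPolynomial.aeval (R := E) fun i => ((1 : E) ⊗ₜ[D] x i))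

/-- After a finite extension of the base, inverting `d ≠ 0`, the family `C / D` has a finite surjective cover by
algebras with the property `P`. -/
def GenData (D C : Type u) [CommRing D] [CommRing C] [Algebra D C]
    (P : ∀ (D₁ C₁ : Type u) [CommRing D₁] [CommRing C₁] [Algebra D₁ C₁], Prop) : Prop :=
  ∃ (d : D) (_ : d ≠ 0) (D₁ : Type u) (_ : CommRing D₁) (_ : IsDomain D₁) (_ : Algebra D D₁)
    (_ : Algebra.FiniteType D D₁),
    Function.Injective (algebraMap D D₁) ∧ IsUnit (algebraMap D D₁ d) ∧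
    (∀ z : D₁, ∃ k : ℕ, IsIntegral D (algebraMap D D₁ d ^ k * z)) ∧
    ∃ (r : ℕ) (C₁ : Fin r → Type u) (_ : ∀ j, CommRing (C₁ j)) (_ : ∀ j, Algebra D₁ (C₁ j))
      (φ : ∀ j, D₁ ⊗[D] C →+* C₁ j),
      (∀ j, (φ j).comp (algebraMap D₁ (D₁ ⊗[D] C)) = algebraMap D₁ (C₁ j)) ∧ (∀ j, (φ j).Finite) ∧
      (∀ p : PrimeSpectrum (D₁ ⊗[D] C), ∃ j, p ∈ Set.range (PrimeSpectrum.comap (φ j))) ∧ ∀ j, P D₁ (C₁ j)

end K168.NiceDef
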