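import Groth.Agent.Etrest.StrictLoc
import Groth.Prelude.Def_SGA1t
import Mathlib.RingTheory.Localization.FractionRing
import Mathlib.RingTheory.FiniteType

/-!
# Local asphericity: definitions

* `NC n Y`: every principal cover of `Y` with a finite group of order dividing `n` has a section.
* `AsphAt n f x`: for every strictly henselian local base `Spec A ⟶ S` and every strict localization `Spec B` of
  `X ×_S Spec A` at a point over `x` and over the closed point of `Spec A`, all the Milnor fibres of
  `Spec B ⟶ Spec A` (at algebraic geometric points) satisfy `NC n`.  `Asph n f`: at every point.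
* `TP O`: the test rings: absolutely integrally closed local domains which are local rings of the integral closure of
  a finitely generated subring.
* `LApAt n f x`: the same as `AsphAt n f x` for bases `Spec O`, `TP O`, and the generic point.
-/

set_option autoImplicit false
universe u

open CategoryTheory CategoryTheory.Limits AlgebraicGeometry IsLocalRing

namespace K168.AsphDef

open Groth.Agent.Etrest.StrictLoc

/-- Every principal cover with a group of order dividing `n` has a section. -/
def NC (n : ℕ) (Y : Scheme.{u}) : Prop :=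
  ∀ (G : Type) [Group G] [Finite G], Nat.card G ∣ n → ∀ (P : FEt.Cat Y) (ρ : G →* Aut P),
    SGA1t.IsPrincipal G P ρ → Nonempty (SGA1t.Sec P)

/-- `Ω` is algebraic over the residue field of the kernel of `ξ`. -/
def AlgOver {A Ω : Type u} [CommRing A] [Field Ω] (ξ : A →+* Ω) : Prop :=
  ∀ y : Ω, ∃ p : Polynomial A, p.map ξ ≠ 0 ∧ p.eval₂ ξ y = 0

/-- Universal local asphericity at a point, all bases. -/
def AsphAt (n : ℕ) {X S : Scheme.{u}} (f : X ⟶ S) (x : X) : Prop :=
  ∀ (A B : Type u) [CommRing A] [IsLocalRing A] [CommRing B] [IsLocalRing B]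
    (_ : HenselianLocalRing A) (_ : IsSepClosed (ResidueField A)) (_ : IsUnit (n : A))
    (t : Spec (CommRingCat.of A) ⟶ S) (σ : Spec (CommRingCat.of B) ⟶ pullback f t) (_ : IsStrictLoc σ)
    (_ : (σ ≫ pullback.fst f t) (closedPoint B) = x)
    (β : A →+* B) (_ : IsLocalHom β) (_ : σ ≫ pullback.snd f t = spm β)
    (Ω : Type u) [Field Ω] [IsSepClosed Ω] (ξ : A →+* Ω) (_ : AlgOver ξ),
    NC n (pullback (spm β) (spm ξ))

/-- Universal local asphericity. -/
def Asph (n : ℕ) {X S : Scheme.{u}} (f : X ⟶ S) : Prop := ∀ x : X, AsphAt n f x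

/-- The test rings. -/
structure TP (O : Type u) [CommRing O] : Prop where
  isDomain : IsDomain O
  isLocal : IsLocalRing O
  aic : ∀ p : Polynomial O, p.Monic → 0 < p.natDegree → ∃ x : O, p.IsRoot x
  model : ∃ C : Subring O, Algebra.FiniteType ℤ C ∧
    ∀ x : O, ∃ s a : O, IsIntegral C s ∧ IsIntegral C a ∧ IsUnit s ∧ s * x = a

/-- Local asphericity at a point, for the test bases and the generic point. -/
def LApAt (n : ℕ) {X S : Scheme.{u}} (f : X ⟶ S) (x : X) : Prop :=
  ∀ (O B : Type u) [CommRing O] [IsLocalRing O] [CommRing B] [IsLocalRing B] (_ : TP O) (_ : IsUnit (n : O))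
    (t : Spec (CommRingCat.of O) ⟶ S) (σ : Spec (CommRingCat.of B) ⟶ pullback f t) (_ : IsStrictLoc σ)
    (_ : (σ ≫ pullback.fst f t) (closedPoint B) = x)
    (β : O →+* B) (_ : IsLocalHom β) (_ : σ ≫ pullback.snd f t = spm β)
    (Ω : Type u) [Field Ω] [Algebra O Ω] [IsFractionRing O Ω],
    NC n (pullback (spm β) (spm (algebraMap O Ω)))

end K168.AsphDef
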