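import Groth.Agent.Sga2lef.H98.GoodLevel

/-!
# Normal approximations and tensor products with normal domains
-/

set_option autoImplicit false
universe u

open TensorProduct Polynomial

namespace K168.NormTens

/-- Normal subalgebras of finite type of a normal domain. -/
theorem exists_normal_sub (D O : Type u) [CommRing O] [IsDomain O] [IsIntegrallyClosed O]
    [CommRing D] [Algebra.FiniteType ℤ D] [Algebra D O] (s : Finset O) :
    ∃ (E : Type u) (_ : CommRing E) (_ : IsDomain E) (_ : IsIntegrallyClosed E) (_ : Algebra D E) (j : E →ₐ[D] O),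
      Algebra.FiniteType ℤ E ∧ Function.Injective j ∧ ∀ x ∈ s, x ∈ Set.range j := by
  let A := Algebra.adjoin D (s : Set O)
  have hA : Algebra.FiniteType D A := (Subalgebra.fg_iff_finiteType _).1 ⟨s, rfl⟩
  have hA' : Algebra.FiniteType ℤ A := Algebra.FiniteType.trans (S := D) inferInstance inferInstance
  let K := FractionRing A
  let L := FractionRing O
  have hOL : Function.Injective (algebraMap O L) := IsFractionRing.injective O L
  have hAL : Function.Injective (algebraMap A L) := hOL.comp Subtype.val_injective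
  let κ : K →ₐ[A] L := IsFractionRing.liftAlgHom (g := Algebra.ofId A L) hAL
  let E := integralClosure A K
  have hint : ∀ e : E, ∃ o : O, algebraMap O L o = κ e := by
    intro e
    have h1 : IsIntegral A (κ e) := e.2.map κ
    have h2 : IsIntegral O (κ e) := h1.tower_top
    exact (IsIntegrallyClosed.isIntegral_iff).1 h2
  let eO : O ≃ₐ[O] (Algebra.ofId O L).range := AlgEquiv.ofInjective (Algebra.ofId O L) hOL
  let j0 : E →+* (Algebra.ofId O L).range :=
    (κ.toRingHom.comp (algebraMap E K)).codRestrict (Algebra.ofId O L).range (fun e => by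
      obtain ⟨o, ho⟩ := hint e
      exact ⟨o, ho⟩)
  let j : E →+* O := (eO.symm : _ →+* O).comp j0
  have hj : ∀ e : E, algebraMap O L (j e) = κ e := by
    intro e
    have h1 : eO (j e) = j0 e := eO.apply_symm_apply _
    exact congrArg Subtype.val h1
  have hjA : ∀ a : A, j (algebraMap A E a) = a := by
    intro a
    apply hOL
    rw [hj]
    exact κ.commutes a
  have hN : CAlg.IsNagata A := Groth.Agent.Sga2lef.H98.GoodLevel.isNagata_of_finiteType_int A
  have hfin : Module.Finite A E :=
    Groth.Agent.CurvesC.AnUnram.finite_integralClosure_of_isNagata A hN (nonZeroDivisors A) le_rfl K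
  have hft0 : (algebraMap A E).FiniteType := RingHom.finiteType_algebraMap.2 inferInstance
  have hft1 : (algebraMap ℤ A).FiniteType := RingHom.finiteType_algebraMap.2 hA'
  have hft2 : ((algebraMap A E).comp (algebraMap ℤ A)).FiniteType := hft0.comp hft1
  have hic : IsIntegrallyClosed E := integralClosure.isIntegrallyClosedOfFiniteExtension K
  refine ⟨E, inferInstance, inferInstance, hic, inferInstance, { j with commutes' := ?_ }, ?_, ?_, ?_⟩
  · intro d
    have h1 := hjA (algebraMap D A d)
    exact h1
  · have h5 : @algebraMap ℤ E _ _ (Ring.toIntAlgebra E) = (algebraMap A E).comp (algebraMap ℤ A) :=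
      Subsingleton.elim _ _
    exact (@RingHom.finiteType_algebraMap ℤ E _ _ (Ring.toIntAlgebra E)).1 (h5 ▸ hft2)
  · intro a b hab
    have h1 : κ a = κ b := by
      rw [← hj, ← hj]
      exact congrArg (algebraMap O L) hab
    exact Subtype.ext (κ.toRingHom.injective h1)
  · intro x hx
    exact ⟨algebraMap A E ⟨x, Algebra.subset_adjoin hx⟩, hjA _⟩

/-- Descent of finitely many tensors. -/
theorem exists_finset {D C O : Type u} [CommRing D] [CommRing C] [Algebra D C] [CommRing O] [Algebra D O]
    (x : O ⊗[D] C) : ∃ s : Finset O, ∀ (E : Type u) [CommRing E] [Algebra D E] (j : E →ₐ[D] O),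
      (∀ x ∈ s, x ∈ Set.range j) → x ∈ Set.range (Algebra.TensorProduct.map j (AlgHom.id D C)) := by
  classical
  induction x with
  | zero => exact ⟨∅, fun E _ _ j _ => ⟨0, map_zero _⟩⟩
  | tmul o c =>
    refine ⟨{o}, fun E _ _ j hj => ?_⟩
    obtain ⟨e, rfl⟩ := hj o (by simp)
    exact ⟨e ⊗ₜ c, Algebra.TensorProduct.map_tmul _ _ _ _⟩
  | add x y hx hy =>
    obtain ⟨s, hs⟩ := hx
    obtain ⟨t, ht⟩ := hy
    refine ⟨s ∪ t, fun E _ _ j hj => ?_⟩
    obtain ⟨a, ha⟩ := hs E j fun x hx => hj x (Finset.mem_union_left _ hx)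
    obtain ⟨b, hb⟩ := ht E j fun x hx => hj x (Finset.mem_union_right _ hx)
    exact ⟨a + b, by rw [map_add, ha, hb]⟩

theorem exists_finset_list {D C O : Type u} [CommRing D] [CommRing C] [Algebra D C] [CommRing O] [Algebra D O]
    (X : Finset (O ⊗[D] C)) : ∃ s : Finset O, ∀ (E : Type u) [CommRing E] [Algebra D E] (j : E →ₐ[D] O),
      (∀ x ∈ s, x ∈ Set.range j) → ∀ x ∈ X, x ∈ Set.range (Algebra.TensorProduct.map j (AlgHom.id D C)) := by
  classical
  choose s hs using fun x : O ⊗[D] C => exists_finset x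
  refine ⟨X.biUnion s, fun E _ _ j hj x hx => hs x E j fun y hy => hj y ?_⟩
  exact Finset.mem_biUnion.2 ⟨x, hx, hy⟩

/-- The base change of an algebra whose Noetherian normal base changes are normal domains, flat over the base. -/
theorem normal_tensor (D C O : Type u) [CommRing O] [IsDomain O] [IsIntegrallyClosed O]
    [CommRing D] [Algebra.FiniteType ℤ D] [Algebra D O] [CommRing C] [Algebra D C]
    (h : ∀ (E : Type u) [CommRing E] [IsDomain E] [IsNoetherianRing E] [IsIntegrallyClosed E] [Algebra D E],
      IsDomain (E ⊗[D] C) ∧ IsIntegrallyClosed (E ⊗[D] C) ∧ Module.Flat E (E ⊗[D] C)) :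
    IsDomain (O ⊗[D] C) ∧ IsIntegrallyClosed (O ⊗[D] C) ∧ Module.Flat O (O ⊗[D] C) := by
  classical
  -- injectivity
  have hinj : ∀ (E : Type u) [CommRing E] [IsDomain E] [IsIntegrallyClosed E] [Algebra D E] (j : E →ₐ[D] O)
      (_ : Algebra.FiniteType ℤ E) (_ : Function.Injective j),
      Function.Injective (Algebra.TensorProduct.map j (AlgHom.id D C)) := by
    intro E _ _ _ _ j hE hj
    have hN : IsNoetherianRing E := Algebra.FiniteType.isNoetherianRing ℤ _
    obtain ⟨-, -, hfl⟩ := h E
    let _ : Algebra E O := j.toRingHom.toAlgebra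
    have hst : IsScalarTower D E O := IsScalarTower.of_algebraMap_eq fun d => (j.commutes d).symm
    let Φ : O ⊗[E] (E ⊗[D] C) ≃ₐ[O] O ⊗[D] C := Algebra.TensorProduct.cancelBaseChange D E O O C
    have h1 : Function.Injective (TensorProduct.mk E O (E ⊗[D] C) 1) := by
      have h2 : Function.Injective (LinearMap.rTensor (E ⊗[D] C) (Algebra.linearMap E O)) :=
        Module.Flat.rTensor_preserves_injective_linearMap _ hj
      intro a b hab
      apply (TensorProduct.lid E (E ⊗[D] C)).symm.injective
      apply h2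
      simpa using hab
    have h3 : ∀ x, Algebra.TensorProduct.map j (AlgHom.id D C) x = Φ (1 ⊗ₜ x) := by
      intro x
      induction x with
      | zero => simp
      | tmul e c =>
        rw [Algebra.TensorProduct.map_tmul, Algebra.TensorProduct.cancelBaseChange_tmul]
        simp [Algebra.smul_def]
        rfl
      | add x y hx hy => rw [map_add, hx, hy, TensorProduct.tmul_add, map_add]
    intro a b hab
    rw [h3, h3] at hab
    exact h1 (Φ.injective hab)
  have key : ∀ X : Finset (O ⊗[D] C), ∃ (E : Type u) (_ : CommRing E) (_ : IsDomain E) (_ : IsIntegrallyClosed E)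
      (_ : Algebra D E) (j : E →ₐ[D] O), Algebra.FiniteType ℤ E ∧
      Function.Injective (Algebra.TensorProduct.map j (AlgHom.id D C)) ∧
      ∀ x ∈ X, x ∈ Set.range (Algebra.TensorProduct.map j (AlgHom.id D C)) := by
    intro X
    obtain ⟨s, hs⟩ := exists_finset_list X
    obtain ⟨E, _, _, _, _, j, h1, h2, h3⟩ := exists_normal_sub D O s
    exact ⟨E, inferInstance, inferInstance, inferInstance, inferInstance, j, h1, hinj E j h1 h2, hs E j h3⟩
  have hdom : IsDomain (O ⊗[D] C) := by
    have hnt : Nontrivial (O ⊗[D] C) := by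
      obtain ⟨E, _, _, _, _, j, h1, h2, h3⟩ := key ∅
      have hN : IsNoetherianRing E := Algebra.FiniteType.isNoetherianRing ℤ _
      obtain ⟨hd, -, -⟩ := h E
      exact h2.nontrivial
    have hnz : NoZeroDivisors (O ⊗[D] C) := by
      refine ⟨fun {x y} hxy => ?_⟩
      obtain ⟨E, _, _, _, _, j, h1, h2, h3⟩ := key {x, y}
      have hN : IsNoetherianRing E := Algebra.FiniteType.isNoetherianRing ℤ _
      obtain ⟨hd, -, -⟩ := h E
      obtain ⟨x, rfl⟩ := h3 x (by simp)
      obtain ⟨y, rfl⟩ := h3 y (by simp)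
      rw [← map_mul, map_eq_zero_iff _ h2, mul_eq_zero] at hxy
      rcases hxy with rfl | rfl
      · exact Or.inl (map_zero _)
      · exact Or.inr (map_zero _)
    exact NoZeroDivisors.to_isDomain _
  refine ⟨hdom, ?_, ?_⟩
  · let T := O ⊗[D] C
    let K := FractionRing T
    rw [isIntegrallyClosed_iff K]
    rintro x ⟨p, hp, hpx⟩
    obtain ⟨a, b, hb, rfl⟩ := IsFractionRing.div_surjective (A := T) x
    have hTK : Function.Injective (algebraMap T K) := IsFractionRing.injective T K
    have h0 : aeval a (scaleRoots p b) = 0 := by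
      have h1 := scaleRoots_aeval_eq_zero_of_aeval_div_eq_zero (R := T) (K := K) hTK hpx hb
      rw [aeval_algebraMap_apply, map_eq_zero_iff _ hTK] at h1
      exact h1
    obtain ⟨E, _, _, _, _, j, h1, h2, h3⟩ := key ({a, b} ∪ p.coeffs)
    have hN : IsNoetherianRing E := Algebra.FiniteType.isNoetherianRing ℤ _
    obtain ⟨hd, hic, -⟩ := h E
    let φ : E ⊗[D] C →+* T := (Algebra.TensorProduct.map j (AlgHom.id D C)).toRingHom
    have hφ : Function.Injective φ := h2
    obtain ⟨a0, ha0⟩ := h3 a (by simp)
    obtain ⟨b0, hb0⟩ := h3 b (by simp)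
    have hlift : p ∈ Polynomial.lifts φ := by
      rw [Polynomial.lifts_iff_coeff_lifts]
      intro n
      by_cases hn : p.coeff n = 0
      · exact ⟨0, by simp [hn]⟩
      · exact h3 _ (Finset.mem_union_right _ (Polynomial.coeff_mem_coeffs hn))
    obtain ⟨q, hq, hqd, hqm⟩ := Polynomial.lifts_and_natDegree_eq_and_monic hlift hp
    have h4 : aeval a0 (scaleRoots q b0) = 0 := by
      apply hφ
      have h5 : φ (eval a0 (scaleRoots q b0)) = eval (φ a0) ((scaleRoots q b0).map φ) :=
        (Polynomial.eval_map_apply φ a0).symm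
      rw [map_zero, ← Polynomial.coe_aeval_eq_eval] at *
      have h6 : (scaleRoots q b0).map φ = scaleRoots p b := by
        rw [Polynomial.map_scaleRoots q b0 φ (by rw [hqm.leadingCoeff, map_one]; exact one_ne_zero), hq]
        congr 1
      rw [h6] at h5
      have h7 : φ a0 = a := ha0
      rw [h7] at h5
      exact h5.trans h0
    let K0 := FractionRing (E ⊗[D] C)
    have hb00 : algebraMap _ K0 b0 ≠ 0 := by
      rw [Ne, map_eq_zero_iff _ (IsFractionRing.injective (E ⊗[D] C) K0)]
      rintro rfl
      apply nonZeroDivisors.ne_zero hb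
      rw [← hb0, map_zero]
    have h5 : IsIntegral (E ⊗[D] C) (algebraMap _ K0 a0 / algebraMap _ K0 b0) := by
      refine ⟨q, hqm, ?_⟩
      have h6 := scaleRoots_eval₂_mul (p := q) (algebraMap (E ⊗[D] C) K0)
        (algebraMap _ K0 a0 / algebraMap _ K0 b0) b0
      rw [mul_div_cancel₀ _ hb00] at h6
      have h7 : eval₂ (algebraMap (E ⊗[D] C) K0) (algebraMap _ K0 a0) (scaleRoots q b0) = 0 := by
        have h8 := congrArg (algebraMap (E ⊗[D] C) K0) h4
        rw [map_zero, ← aeval_algebraMap_apply] at h8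
        exact h8
      rw [h7, zero_eq_mul] at h6
      exact h6.resolve_left (pow_ne_zero _ hb00)
    obtain ⟨c, hc⟩ := (IsIntegrallyClosed.isIntegral_iff).1 h5
    refine ⟨φ c, ?_⟩
    have h8 : c * b0 = a0 := by
      apply IsFractionRing.injective (E ⊗[D] C) K0
      rw [map_mul, hc, div_mul_cancel₀ _ hb00]
    have h9 : φ c * b = a := by
      have h10 : φ b0 = b := hb0
      have h11 : φ a0 = a := ha0
      rw [← h10, ← h11, ← h8, map_mul]
    have hbK : algebraMap T K b ≠ 0 := by
      rw [Ne, map_eq_zero_iff _ hTK]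
      exact nonZeroDivisors.ne_zero hb
    rw [eq_div_iff hbK, ← map_mul, h9]
  · obtain ⟨E, _, _, _, _, j, h1, h2, h3⟩ := key ∅
    have hN : IsNoetherianRing E := Algebra.FiniteType.isNoetherianRing ℤ _
    obtain ⟨-, -, hfl⟩ := h E
    let _ : Algebra E O := j.toRingHom.toAlgebra
    have hst : IsScalarTower D E O := IsScalarTower.of_algebraMap_eq fun d => (j.commutes d).symm
    let Φ : O ⊗[E] (E ⊗[D] C) ≃ₐ[O] O ⊗[D] C := Algebra.TensorProduct.cancelBaseChange D E O O C
    exact Module.Flat.of_linearEquiv Φ.toLinearEquiv.symm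

end K168.NormTens
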