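import Groth.Agent.Etbc.H192.Glue
import Groth.Agent.Etbase.QuotHens
import Groth.Agent.S2748
import Groth.Agent.CalgB.HullFlat
import Mathlib.RingTheory.TensorProduct.Quotient

/-!
# Tools for strict localizations of affine schemes
-/

set_option autoImplicit false
universe u

open TensorProduct PrimeSpectrum IsLocalRing CategoryTheory CategoryTheory.Limits AlgebraicGeometry

namespace K168.SLTools

open Groth.Agent.Etrest.StrictLoc Groth.Agent.Sga1.UlaSL

/-- A strictly henselian local ring, weakly étale over `X`, is a strict localization. -/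
theorem isStrictLoc_of_weaklyEtale {X : Scheme.{u}} {C : Type u} [CommRing C] [HenselianLocalRing C]
    [IsSepClosed (ResidueField C)] (q : Spec (CommRingCat.of C) ⟶ X) [WeaklyEtale q] : IsStrictLoc q := by
  have h := (isStrictLoc_id C).comp q
  rwa [Category.id_comp] at h

/-- Quotients of strict localizations. -/
theorem isStrictLoc_quot {T B : Type u} [CommRing T] [CommRing B] [IsLocalRing B] (ε : T →+* B)
    (h : IsStrictLoc (spm ε)) (J : Ideal T) (hJ : J.map ε ≤ maximalIdeal B) :
    ∃ _ : IsLocalRing (B ⧸ J.map ε), IsStrictLoc (spm (Ideal.quotientMap (J.map ε) ε Ideal.le_comap_map)) := by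
  have hnt : Nontrivial (B ⧸ J.map ε) := Ideal.Quotient.nontrivial_iff.2 (fun h0 =>
    (maximalIdeal.isMaximal B).ne_top (top_le_iff.1 (h0 ▸ hJ)))
  obtain ⟨hh, hs⟩ := Groth.Agent.Etbase.QuotHens.isStrictlyHenselian_of_surjective
    (Ideal.Quotient.mk (J.map ε)) Ideal.Quotient.mk_surjective ⟨h.henselian, h.sepClosed⟩
  refine ⟨inferInstance, ?_⟩
  let _ : Algebra T B := ε.toAlgebra
  let e := Algebra.TensorProduct.quotIdealMapEquivQuotTensor B J
  have h4 := isPullback_SpecMap_of_isPushout _ _ _ _ (CommRingCat.isPushout_tensorProduct T (T ⧸ J) B)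
  have h5 : WeaklyEtale (spm (algebraMap (T ⧸ J) ((T ⧸ J) ⊗[T] B))) :=
    MorphismProperty.of_isPullback h4.flip (weaklyEtale_of_isStrictLoc h)
  have h6 : IsIso (spm (e.symm.toRingEquiv.toRingHom)) := isIso_spm _ e.symm.bijective
  have h7 : spm (Ideal.quotientMap (J.map ε) ε Ideal.le_comap_map) =
      spm (e.symm.toRingEquiv.toRingHom) ≫ spm (algebraMap (T ⧸ J) ((T ⧸ J) ⊗[T] B)) := by
    rw [← spm_comp, spm_inj]
    ext x
    exact (e.symm.commutes (Ideal.Quotient.mk J x)).symm
  have h8 : WeaklyEtale (spm (Ideal.quotientMap (J.map ε) ε Ideal.le_comap_map)) := by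
    rw [h7]
    infer_instance
  exact isStrictLoc_of_weaklyEtale _

theorem normal_of_stalk {T B : Type u} [CommRing T] [IsDomain T] [IsIntegrallyClosed T] [CommRing B]
    [IsLocalRing B] (ε : T →+* B) (q : PrimeSpectrum T) [Algebra ((Spec (CommRingCat.of T)).presheaf.stalk q) B]
    [IsLocalHom (algebraMap ((Spec (CommRingCat.of T)).presheaf.stalk q) B)]
    [Hensel.IsStrictHenselization ((Spec (CommRingCat.of T)).presheaf.stalk q) B]
    (h4 : Hens2.specOf (Spec (CommRingCat.of T)) q B = spm ε) :
    IsDomain B ∧ IsIntegrallyClosed B ∧ Function.Injective ε := by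
  let _ : Algebra T ((Spec (CommRingCat.of T)).presheaf.stalk q) :=
    (show Algebra T ((Spec.structureSheaf T).presheaf.stalk q) from inferInstance)
  have hloc : IsLocalization.AtPrime ((Spec (CommRingCat.of T)).presheaf.stalk q) q.asIdeal :=
    (show IsLocalization.AtPrime ((Spec.structureSheaf T).presheaf.stalk q) q.asIdeal from inferInstance)
  have h5 : (Spec (CommRingCat.of T)).fromSpecStalk q =
      spm (algebraMap T ((Spec (CommRingCat.of T)).presheaf.stalk q)) :=
    Spec.fromSpecStalk_eq' (CommRingCat.of T) q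
  have h6 : ε = (algebraMap ((Spec (CommRingCat.of T)).presheaf.stalk q) B).comp
      (algebraMap T ((Spec (CommRingCat.of T)).presheaf.stalk q)) := by
    rw [← spm_inj, spm_comp, ← h5]
    exact h4.symm
  have hd : IsDomain ((Spec (CommRingCat.of T)).presheaf.stalk q) :=
    IsLocalization.isDomain_of_le_nonZeroDivisors _ q.asIdeal.primeCompl_le_nonZeroDivisors
  have hic : IsIntegrallyClosed ((Spec (CommRingCat.of T)).presheaf.stalk q) :=
    isIntegrallyClosed_of_isLocalization _ q.asIdeal.primeCompl q.asIdeal.primeCompl_le_nonZeroDivisors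
  obtain ⟨h7, h8⟩ := (Groth.Agent.S2748.result ((Spec (CommRingCat.of T)).presheaf.stalk q) B).2 ⟨hd, hic⟩
  refine ⟨h7, h8, ?_⟩
  rw [h6]
  have h9 : Module.Flat ((Spec (CommRingCat.of T)).presheaf.stalk q) B := by
    have h10 := Groth.Agent.CalgB.HullFlat.indEt_of_isStrictHenselization ((Spec (CommRingCat.of T)).presheaf.stalk q) B
    exact h10.flat
  exact (FaithfulSMul.algebraMap_injective ((Spec (CommRingCat.of T)).presheaf.stalk q) B).comp
    (IsLocalization.injective _ q.asIdeal.primeCompl_le_nonZeroDivisors)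

/-- Strict localizations of normal domains. -/
theorem normal_of_isStrictLoc {T B : Type u} [CommRing T] [IsDomain T] [IsIntegrallyClosed T] [CommRing B]
    [IsLocalRing B] (ε : T →+* B) (h : IsStrictLoc (spm ε)) :
    IsDomain B ∧ IsIntegrallyClosed B ∧ Function.Injective ε := by
  obtain ⟨i1, i2, i3, h4⟩ := exists_specOf h _ rfl
  exact normal_of_stalk ε _ h4

theorem weaklyEtale_spm_of_isLocalization {T T' : Type u} [CommRing T] [CommRing T'] [Algebra T T']
    (M : Submonoid T) [IsLocalization M T'] : WeaklyEtale (spm (algebraMap T T')) := by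
  have h1 : Epi (CommRingCat.ofHom (algebraMap T T')) := IsLocalization.epi M T'
  have h2 : Mono (spm (algebraMap T T')) := by
    have : Mono (CommRingCat.ofHom (algebraMap T T')).op := inferInstance
    exact inferInstanceAs (Mono (Scheme.Spec.map (CommRingCat.ofHom (algebraMap T T')).op))
  have h3 : Flat (spm (algebraMap T T')) := by
    rw [HasRingHomProperty.Spec_iff (P := @Flat)]
    have h4 : Module.Flat T T' := IsLocalization.flat T' M
    exact RingHom.flat_algebraMap_iff.2 h4
  exact ⟨h3, inferInstance⟩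

/-- Strict localizations and localizations of the base. -/
theorem isStrictLoc_localization {T T' B : Type u} [CommRing T] [CommRing T'] [CommRing B] [IsLocalRing B]
    [Algebra T T'] (M : Submonoid T) [IsLocalization M T'] (ε : T' →+* B) :
    IsStrictLoc (spm (ε.comp (algebraMap T T'))) ↔ IsStrictLoc (spm ε) := by
  have h1 : WeaklyEtale (spm (algebraMap T T')) := weaklyEtale_spm_of_isLocalization M
  rw [spm_comp]
  exact ⟨fun h => h.of_comp (spm (algebraMap T T')), fun h => h.comp (spm (algebraMap T T'))⟩

end K168.SLTools
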