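import Groth.Agent.EtAcyc.K168.CoreMain

/-!
# The algebraic core of the bad point step: reduction to a connected cover
-/

set_option autoImplicit false
universe u

open TensorProduct PrimeSpectrum IsLocalRing CategoryTheory AlgebraicGeometry

namespace K168.CoreSec

open Groth.Agent.Etrest.StrictLoc Groth.Agent.Sga1.UlaSL CoreLoc CoreMain

theorem algebraMap_away_surjective {A : Type u} [CommRing A] (e : A) (he : IsIdempotentElem e) :
    Function.Surjective (algebraMap A (Localization.Away e)) := by
  intro x
  obtain ⟨⟨a, ⟨_, n, rfl⟩⟩, hx⟩ := IsLocalization.surj (Submonoid.powers e) x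
  refine ⟨a, ?_⟩
  have h1 : algebraMap A (Localization.Away e) e = 1 := by
    have h2 : IsUnit (algebraMap A (Localization.Away e) e) := IsLocalization.Away.algebraMap_isUnit e
    exact (IsIdempotentElem.iff_eq_one_of_isUnit h2).1 (he.map (algebraMap A _))
  simp only [map_pow, h1, one_pow, mul_one] at hx
  exact hx.symm

theorem algebraMap_away_self {A : Type u} [CommRing A] (e : A) (he : IsIdempotentElem e) :
    algebraMap A (Localization.Away e) e = 1 := by
  have h2 : IsUnit (algebraMap A (Localization.Away e) e) := IsLocalization.Away.algebraMap_isUnit e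
  exact (IsIdempotentElem.iff_eq_one_of_isUnit h2).1 (he.map (algebraMap A _))

set_option maxHeartbeats 400000 in
/-- Local data passes to components. -/
theorem locAt_away {O B L A : Type u} [CommRing O] [IsDomain O] [CommRing B] [CommRing L] [CommRing A] [Algebra O B]
    [Algebra B L] [Algebra L A] {r : ℕ} (f : Fin r → B) (y : PrimeSpectrum B)
    (hMB : mo O B ≤ nonZeroDivisors B) [IsDomain B]
    (h : LocAt O B L A f y) (e : A) (he : IsIdempotentElem e) :
    LocAt O B L (Localization.Away e) f y := by
  obtain ⟨B', E, i1, i2, i3, i4, i5, i6, i7, i8, i9, i10, i11, i12, hsl, hinj', hy', ⟨ι, _, l, hl⟩, hc⟩ := h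
  have hMB' : Algebra.algebraMapSubmonoid B' (mo O B) ≤ nonZeroDivisors B' := by
    rintro _ ⟨b, hb, rfl⟩
    rw [mem_nonZeroDivisors_iff_ne_zero, Ne, map_eq_zero_iff _ hinj']
    exact nonZeroDivisors.ne_zero (hMB hb)
  have hE : IsDomain E := IsLocalization.isDomain_of_le_nonZeroDivisors E hMB'
  refine ⟨B', E, i1, i2, i3, i4, i5, i6, i7, i8, i9, i10, i11, i12, hsl, hinj', hy', ?_, hc⟩
  have hu : ∀ i : {i : ι // l i e = 1}, ∀ y : Submonoid.powers e, IsUnit (l i y) := by
    rintro ⟨i, hi⟩ ⟨_, n, rfl⟩
    simp [hi]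
  let π : A →ₐ[L] Localization.Away e := IsScalarTower.toAlgHom L A _
  have hπs : Function.Surjective π := algebraMap_away_surjective e he
  let l' : {i : ι // l i e = 1} → Localization.Away e →ₐ[L] E := fun i =>
    IsLocalization.liftAlgHom (M := Submonoid.powers e) (f := l i) (hu i)
  have hl' : ∀ i a, l' i (π a) = l i a := fun i a => IsLocalization.lift_eq (hu i) a
  refine ⟨{i : ι // l i e = 1}, inferInstance, l', fun x hx => ?_⟩
  let pp : E ⊗[L] A →ₐ[E] E ⊗[L] Localization.Away e := Algebra.TensorProduct.map (AlgHom.id E E) π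
  have hpps : Function.Surjective pp := by
    intro x
    induction x with
    | zero => exact ⟨0, map_zero _⟩
    | tmul a b =>
      obtain ⟨b', rfl⟩ := hπs b
      exact ⟨a ⊗ₜ b', Algebra.TensorProduct.map_tmul _ _ _ _⟩
    | add a b ha hb =>
      obtain ⟨a', rfl⟩ := ha
      obtain ⟨b', rfl⟩ := hb
      exact ⟨a' + b', map_add _ _ _⟩
  obtain ⟨x', rfl⟩ := hpps x
  have hsec : ∀ i (x : E ⊗[L] A), sec (l' i) (pp x) = sec (l i) x := by
    intro i x
    have h1 : (sec (l' i)).comp pp = sec (l i) := by
      apply Algebra.TensorProduct.ext'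
      intro a b
      rw [AlgHom.comp_apply, Algebra.TensorProduct.map_tmul, sec_tmul, sec_tmul, hl']
      rfl
    exact congrArg (fun k => k x) h1
  have h0 : (1 ⊗ₜ e : E ⊗[L] A) * x' = 0 := by
    apply hl
    intro i
    rw [map_mul, sec_tmul, one_mul]
    have h2 : IsIdempotentElem (l i e) := he.map (l i)
    rcases (IsIdempotentElem.iff_eq_zero_or_one).1 h2 with h3 | h3
    · rw [h3, zero_mul]
    · rw [h3, one_mul, ← hsec ⟨i, h3⟩]
      exact hx _
  have h1 : pp x' = pp ((1 ⊗ₜ e : E ⊗[L] A) * x') := by
    rw [map_mul]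
    have : pp (1 ⊗ₜ e : E ⊗[L] A) = 1 := by
      have h2 : π e = 1 := algebraMap_away_self e he
      rw [Algebra.TensorProduct.map_tmul, h2, map_one, Algebra.TensorProduct.one_def]
    rw [this, one_mul]
  rw [h1, h0, map_zero]

variable {O B L A : Type u} [CommRing O] [IsDomain O] [CommRing B] [IsDomain B] [IsIntegrallyClosed B]
  [HenselianLocalRing B]
  [CommRing L] [CommRing A] [Algebra O B] [Algebra B L] [IsLocalization (mo O B) L]
  [Algebra L A] {r : ℕ} (f : Fin r → B)

/-- **The algebraic core.** -/
theorem exists_section [Algebra.Etale L A] [Module.Finite L A]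
    (hO : Function.Injective (algebraMap O B)) (hm : ∃ o : O, o ≠ 0 ∧ algebraMap O B o ∈ maximalIdeal B)
    (hloc : ∀ y : PrimeSpectrum B, y ≠ closedPoint B → LocAt O B L A f y)
    (hconn : ∀ (N : Type u) [CommRing N] [IsDomain N] [IsLocalRing N] [IsIntegrallyClosed N] [Algebra B N]
      [Algebra.IsIntegral B N], Function.Injective (algebraMap B N) →
      _root_.IsPreconnected {x : PrimeSpectrum N | (∀ i, algebraMap B N (f i) ∈ x.asIdeal) ∧ x ≠ closedPoint N})
    (hI : Ideal.span (Set.range fun i => algebraMap B L (f i)) ≠ ⊤)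
    (hI' : ∀ e : L ⧸ (Ideal.span (Set.range fun i => algebraMap B L (f i))), IsIdempotentElem e → e = 0 ∨ e = 1)
    (σ : A →ₐ[L] L ⧸ (Ideal.span (Set.range fun i => algebraMap B L (f i)))) :
    Nonempty (A →ₐ[L] L) := by
  have hMB : mo O B ≤ nonZeroDivisors B := by
    rintro _ ⟨o, ho, rfl⟩
    rw [mem_nonZeroDivisors_iff_ne_zero]
    intro h
    exact nonZeroDivisors.ne_zero ho (hO (by rw [h, map_zero]))
  have hLd : IsDomain L := IsLocalization.isDomain_of_le_nonZeroDivisors L hMB
  have hLic : IsIntegrallyClosed L := isIntegrallyClosed_of_isLocalization L (mo O B) hMB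
  have hnt : Nontrivial (L ⧸ (Ideal.span (Set.range fun i => algebraMap B L (f i)))) :=
    Ideal.Quotient.nontrivial_iff.2 hI
  obtain ⟨m⟩ : Nonempty (PrimeSpectrum (L ⧸ (Ideal.span (Set.range fun i => algebraMap B L (f i))))) :=
    inferInstance
  obtain ⟨e, he, hep, hd, hic⟩ := Groth.Agent.Etcore.NormalEtale.exists_idempotent_notMem (R := L) (S := A)
    (m.asIdeal.comap σ.toRingHom)
  have hσe : σ e = 1 := by
    rcases hI' (σ e) (he.map σ) with h | h
    · exfalso
      apply hep
      change σ e ∈ m.asIdeal
      rw [h]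
      exact zero_mem _
    · exact h
  have hfl : Module.Flat L A := inferInstance
  have hE1 : Algebra.Etale A (Localization.Away e) := Algebra.Etale.of_isLocalizationAway e
  have hE2 : Algebra.Etale L (Localization.Away e) := Algebra.Etale.comp L A (Localization.Away e)
  have hfin : Module.Finite L (Localization.Away e) :=
    Module.Finite.of_surjective (IsScalarTower.toAlgHom L A (Localization.Away e)).toLinearMap
      (algebraMap_away_surjective e he)
  have hLA : Function.Injective (algebraMap L (Localization.Away e)) := by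
    have h1 : Module.Flat L (Localization.Away e) := inferInstance
    exact FaithfulSMul.algebraMap_injective L (Localization.Away e)
  let _ : Algebra B (Localization.Away e) := ((algebraMap L (Localization.Away e)).comp (algebraMap B L)).toAlgebra
  have hst : IsScalarTower B L (Localization.Away e) := IsScalarTower.of_algebraMap_eq fun _ => rfl
  have hu : ∀ y : Submonoid.powers e, IsUnit (σ y) := by
    rintro ⟨_, n, rfl⟩
    simp [hσe]
  have hbij := bijective_of_isDomain f hO hm hLA (fun y hy => locAt_away f y hMB (hloc y hy) e he) hconn hI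
    (IsLocalization.liftAlgHom (M := Submonoid.powers e) (f := σ) hu)
  exact ⟨((AlgEquiv.ofBijective (Algebra.ofId L (Localization.Away e)) hbij).symm : _ →ₐ[L] L).comp
    (IsScalarTower.toAlgHom L A (Localization.Away e))⟩

end K168.CoreSec
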