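import Groth.Agent.EtAcyc.K168.BadQuot
import Groth.Agent.EtAcyc.K168.CoreSec
import Groth.Agent.EtAcyc.K168.NormTens
import Groth.Agent.EtAcyc.K168.NiceDef

/-!
# The bad point step: the other points of the strict localization
-/

set_option autoImplicit false
universe u

open TensorProduct PrimeSpectrum IsLocalRing CategoryTheory CategoryTheory.Limits AlgebraicGeometry

namespace K168.BadLoc

open Groth.Agent.Etrest.StrictLoc Groth.Agent.Sga1.UlaSL AsphDef Groth.Agent.Flat2E.AIC1 RingForm BadTools BadQuot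
  NiceDef CoreMain CoreLoc TPLoc

/-- Ring form of local asphericity at all points, for test bases of bounded rank. -/
def RingAsph (n k : ℕ) (D C : Type u) [CommRing D] [CommRing C] [Algebra D C] : Prop :=
  ∀ (O B L : Type u) [CommRing O] [IsLocalRing O] [CommRing B] [IsLocalRing B] [CommRing L] [Algebra B L]
    [Algebra D O] (_ : TP O) (_ : Rk O k) (_ : IsUnit (n : O)) (ε : O ⊗[D] C →+* B) (_ : IsStrictLoc (spm ε))
    (_ : IsLocalHom (fromO ε)) [IsLocalization ((nonZeroDivisors O).map (fromO ε)) L],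
    NC n (Spec (CommRingCat.of L))

theorem lApAt_of_ringAsph {n : ℕ} {D C : Type u} [CommRing D] [CommRing C] [Algebra D C]
    (h : ∀ k, RingAsph n k D C) (y : Spec (CommRingCat.of C)) : LApAt n (spm (algebraMap D C)) y := by
  refine lApAt_of y ?_
  intro O B L _ _ _ _ _ _ _ hO hn ε hε hl _ _
  obtain ⟨k, hk⟩ := exists_rk hO
  exact h k O B L hO hk hn ε hε hl

variable {D C O B B' : Type u} [CommRing D] [CommRing C] [Algebra D C] [CommRing O] [Algebra D O] [IsDomain O]
  [CommRing B] [IsLocalRing B] [CommRing B'] [IsLocalRing B']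

omit [IsLocalRing B'] [IsLocalRing B] [CommRing B] in
theorem isLocalization_localized {q : Ideal O} [q.IsPrime] (ε : O ⊗[D] C →+* B')
    {ε' : Localization.AtPrime q ⊗[D] C →+* B'}
    (h : (fromO ε').comp (algebraMap O (Localization.AtPrime q)) = fromO ε)
    (E : Type u) [CommRing E] [Algebra B' E] [IsLocalization ((nonZeroDivisors O).map (fromO ε)) E] :
    IsLocalization ((nonZeroDivisors (Localization.AtPrime q)).map (fromO ε')) E := by
  refine IsLocalization.of_le_of_exists_dvd ((nonZeroDivisors O).map (fromO ε)) _ ?_ ?_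
  · rintro _ ⟨o, ho, rfl⟩
    refine ⟨algebraMap O _ o, ?_, ?_⟩
    · exact IsLocalization.map_nonZeroDivisors_le q.primeCompl _ ⟨o, ho, rfl⟩
    · rw [← h]
      rfl
  · rintro _ ⟨z, hz, rfl⟩
    obtain ⟨a, s, rfl⟩ := IsLocalization.exists_mk'_eq q.primeCompl z
    refine ⟨fromO ε a, ⟨a, ?_, rfl⟩, ?_⟩
    · apply mem_nonZeroDivisors_of_ne_zero
      rintro rfl
      rw [IsLocalization.mk'_zero] at hz
      exact zero_notMem_nonZeroDivisors hz
    · refine ⟨fromO ε' (algebraMap O _ s), ?_⟩
      rw [← h, RingHom.comp_apply, ← map_mul, IsLocalization.mk'_spec]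

/-- Asphericity at the other points. -/
theorem nc_at [IsLocalRing O] {n k m : ℕ} {x : Fin m → C} (hP : Pre D C x)
    (h1 : ∀ y : Spec (CommRingCat.of C), (∃ j, x j ∉ y.asIdeal) → AsphAt n (spm (algebraMap D C)) y)
    (ih : RingAsph n k D C) (hO : TP O) (hk : Rk O (k + 1)) (hn : IsUnit (n : O)) (ε : O ⊗[D] C →+* B)
    (hε : IsStrictLoc (spm ε)) (φ : B →+* B') (hφ : IsStrictLoc (spm φ))
    (hy : comap φ (closedPoint B') ≠ closedPoint B) (E : Type u) [CommRing E] [Algebra B' E]
    [IsLocalization ((nonZeroDivisors O).map (fromO (φ.comp ε))) E] : NC n (Spec (CommRingCat.of E)) := by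
  have hw : WeaklyEtale (spm ε) := weaklyEtale_of_isStrictLoc hε
  have hε₁ : IsStrictLoc (spm (φ.comp ε)) := by
    rw [spm_comp]
    exact hφ.comp (spm ε)
  let q : Ideal O := (maximalIdeal B').comap (fromO (φ.comp ε))
  have hq : q.IsPrime := inferInstance
  obtain ⟨ε', h2, h3, h4, h5⟩ := exists_localized (φ.comp ε) hε₁ q rfl
  have hO' : TP (Localization.AtPrime q) := tp_loc hO q
  have hn' : IsUnit (n : Localization.AtPrime q) := by simpa using hn.map (algebraMap O (Localization.AtPrime q))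
  have hE : IsLocalization ((nonZeroDivisors (Localization.AtPrime q)).map (fromO ε')) E :=
    isLocalization_localized (φ.comp ε) h5 E
  by_cases hqm : q = maximalIdeal O
  · obtain ⟨j, hj⟩ := exists_notMem x hP.finite ε hε (comap φ (closedPoint B')) hy hqm
    refine nc_of_asphAt hO' hn' ε' h2 h3 (h1 _ ⟨j, ?_⟩) E
    rw [h4]
    exact hj
  · exact ih _ B' E hO' (rk_loc hk q hqm) hn' ε' h2 h3

/-- Connectedness of the generic part of a closed subset at the other points. -/
theorem isConnected_at (hO : TP O) (ε : O ⊗[D] C →+* B) (hε : IsStrictLoc (spm ε)) (φ : B →+* B')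
    (hφ : IsStrictLoc (spm φ)) (𝔞 : Ideal C) (h𝔞 : 𝔞.map (fromC (φ.comp ε)) ≤ maximalIdeal B')
    (hg : K548.Good.IsGood (spm (algebraMap D (C ⧸ 𝔞)))) :
    _root_.IsConnected {z : PrimeSpectrum B' | 𝔞.map (fromC (φ.comp ε)) ≤ z.asIdeal ∧
      ∀ o : O, fromO (φ.comp ε) o ∈ z.asIdeal → o = 0} := by
  have hw : WeaklyEtale (spm ε) := weaklyEtale_of_isStrictLoc hε
  have hε₁ : IsStrictLoc (spm (φ.comp ε)) := by
    rw [spm_comp]
    exact hφ.comp (spm ε)
  let q : Ideal O := (maximalIdeal B').comap (fromO (φ.comp ε))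
  have hq : q.IsPrime := inferInstance
  obtain ⟨ε', h2, h3, h4, h5⟩ := exists_localized (φ.comp ε) hε₁ q rfl
  have hO' : TP (Localization.AtPrime q) := tp_loc hO q
  have h6 := isConnected_genSet hO' ε' h2 h3 𝔞 (by rw [h4]; exact h𝔞) hg
  have hinj : Function.Injective (algebraMap O (Localization.AtPrime q)) :=
    IsLocalization.injective _ q.primeCompl_le_nonZeroDivisors
  have h7 : {z : PrimeSpectrum B' | 𝔞.map (fromC (φ.comp ε)) ≤ z.asIdeal ∧
      ∀ o : O, fromO (φ.comp ε) o ∈ z.asIdeal → o = 0} = {z : PrimeSpectrum B' | 𝔞.map (fromC ε') ≤ z.asIdeal ∧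
      ∀ o, fromO ε' o ∈ z.asIdeal → o = 0} := by
    ext z
    rw [Set.mem_ofPred_eq, Set.mem_ofPred_eq, h4]
    refine and_congr_right fun _ => ⟨fun h o ho => ?_, fun h o ho => ?_⟩
    · obtain ⟨a, s, rfl⟩ := IsLocalization.exists_mk'_eq q.primeCompl o
      have h8 : a = 0 := by
        apply h
        rw [← h5, RingHom.comp_apply, ← IsLocalization.mk'_spec _ a s, map_mul]
        exact z.asIdeal.mul_mem_right _ ho
      rw [h8, IsLocalization.mk'_zero]
    · apply hinj
      rw [map_zero]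
      apply h
      rw [← h5] at ho
      exact ho
  rw [h7]
  exact h6

end K168.BadLoc
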