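import Groth.Agent.EtAcyc.K168.BadLoc
import Groth.Agent.EtAcyc.K155.Model
import Groth.Agent.EtAcyc.K155.ConnInt
import Mathlib.RingTheory.Flat.TorsionFree

/-!
# The bad point step
-/

set_option autoImplicit false
universe u

open TensorProduct PrimeSpectrum IsLocalRing CategoryTheory CategoryTheory.Limits AlgebraicGeometry

namespace K168.BadPoint

open Groth.Agent.Etrest.StrictLoc Groth.Agent.Sga1.UlaSL AsphDef Groth.Agent.Flat2E.AIC1 RingForm BadTools BadQuot
  NiceDef CoreMain CoreLoc TPLoc BadLoc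

theorem idem_trivial {B : Type u} [CommRing B] [ConnectedSpace (PrimeSpectrum B)] {e : B}
    (he : IsIdempotentElem e) : e = 0 ∨ e = 1 := by
  have h1 := _root_.isClopen_iff.mp (PrimeSpectrum.isClopen_iff.mpr ⟨e, he, rfl⟩)
  rcases h1 with h1 | h1
  · left
    apply PrimeSpectrum.basicOpen_injOn_isIdempotentElem he IsIdempotentElem.zero
    ext1
    rw [h1, PrimeSpectrum.basicOpen_zero]; rfl
  · right
    apply PrimeSpectrum.basicOpen_injOn_isIdempotentElem he IsIdempotentElem.one
    ext1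
    rw [h1, PrimeSpectrum.basicOpen_one]; rfl

theorem mem_of_map_span {C B : Type u} [CommRing C] [CommRing B] (φ : C →+* B) {r : ℕ} (x : Fin r → C)
    (I : Ideal B) : (Ideal.span (Set.range x)).map φ ≤ I ↔ ∀ i, φ (x i) ∈ I := by
  rw [Ideal.map_span, Ideal.span_le]
  constructor
  · intro h i
    exact h ⟨x i, ⟨i, rfl⟩, rfl⟩
  · rintro h _ ⟨_, ⟨i, rfl⟩, rfl⟩
    exact h i

variable {D C O B : Type u} [CommRing D] [CommRing C] [Algebra D C] [CommRing O] [Algebra D O] [IsDomain O]
  [CommRing B] [IsLocalRing B]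

omit [IsDomain O] in
/-- The connectedness input. -/
theorem preconnected_punctured [Algebra.FiniteType ℤ D] [Algebra.FiniteType D C] {r : ℕ} {x : Fin (r + 1) → C}
    (hP : Pre D C x) (hO : TP O) (hf : ¬ IsField O) (ε : O ⊗[D] C →+* B) (hε : IsStrictLoc (spm ε))
    (hl : IsLocalHom (fromO ε)) (hx : ∀ j, fromC ε (x j) ∈ maximalIdeal B)
    (N : Type u) [CommRing N] [IsDomain N] [IsLocalRing N] [IsIntegrallyClosed N] [Algebra B N]
    [Algebra.IsIntegral B N] (hN : Function.Injective (algebraMap B N)) :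
    _root_.IsPreconnected {z : PrimeSpectrum N |
      (∀ i : Fin r, algebraMap B N (fromC ε (x i.castSucc)) ∈ z.asIdeal) ∧ z ≠ closedPoint N} := by
  obtain ⟨B₁, _, _, _, _, γ, hG, hint, hinj, hγ, hdim⟩ :=
    K155.Model.exists_model hO hf ε hε hl x hP.finite hP.bc hx
  let _ : Algebra B₁ N := ((algebraMap B N).comp (algebraMap B₁ B)).toAlgebra
  have hst : IsScalarTower B₁ B N := IsScalarTower.of_algebraMap_eq fun _ => rfl
  have hint' : Algebra.IsIntegral B₁ N := Algebra.IsIntegral.trans B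
  have hfs : FaithfulSMul B₁ N := (faithfulSMul_iff_algebraMap_injective B₁ N).2 (hN.comp hinj)
  have hmem : ∀ i : Fin r, γ (x i.castSucc) ∈ maximalIdeal B₁ := by
    intro i hu
    have h1 := hu.map (algebraMap B₁ B)
    rw [hγ] at h1
    exact (hx i.castSucc) h1
  have h := K155.ConnInt.isConnected B₁ N hG (r := r) hdim (fun i => γ (x i.castSucc)) hmem
  have h2 : {z : PrimeSpectrum N | (∀ i : Fin r, algebraMap B N (fromC ε (x i.castSucc)) ∈ z.asIdeal) ∧
      z ≠ closedPoint N} = {z : PrimeSpectrum N | (∀ i : Fin r, algebraMap B₁ N (γ (x i.castSucc)) ∈ z.asIdeal) ∧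
      z ≠ closedPoint N} := by
    have h3 : ∀ i : Fin r, algebraMap B₁ N (γ (x i.castSucc)) = algebraMap B N (fromC ε (x i.castSucc)) := by
      intro i
      rw [IsScalarTower.algebraMap_apply B₁ B N, hγ]
      rfl
    simp only [h3]
  rw [h2]
  exact h.isPreconnected

omit [IsLocalRing B] in
theorem injective_fromO (hdom : IsDomain (O ⊗[D] C)) (hfl : Module.Flat O (O ⊗[D] C)) (ε : O ⊗[D] C →+* B)
    (hinj : Function.Injective ε) : Function.Injective (fromO ε) := by
  have h1 : Module.IsTorsionFree O (O ⊗[D] C) := inferInstance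
  have h2 : Function.Injective (algebraMap O (O ⊗[D] C)) := FaithfulSMul.algebraMap_injective O (O ⊗[D] C)
  exact hinj.comp h2

/-- The local data at the other points. -/
theorem locAt [IsLocalRing O] {n k r : ℕ} {x : Fin (r + 1) → C} (hP : Pre D C x)
    (h1 : ∀ y : Spec (CommRingCat.of C), (∃ j, x j ∉ y.asIdeal) → AsphAt n (spm (algebraMap D C)) y)
    (h3 : K548.Good.IsGood (spm (algebraMap D (C ⧸ Ideal.span (Set.range fun i : Fin r => x i.castSucc)))))
    (ih : RingAsph n k D C) (hO : TP O) (hk : Rk O (k + 1)) (hn : IsUnit (n : O)) (ε : O ⊗[D] C →+* B)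
    (hε : IsStrictLoc (spm ε)) [IsDomain B] [IsIntegrallyClosed B]
    (L A : Type u) [CommRing L] [Algebra B L] [IsLocalization ((nonZeroDivisors O).map (fromO ε)) L]
    [CommRing A] [Algebra L A] [Algebra.Etale L A] {G : Type} [Group G] [Finite G] (rr : G → A →ₐ[L] A)
    (hr : ∀ (Ω : Type u) [Field Ω] [IsAlgClosed Ω] (a b : A →+* Ω),
        a.comp (algebraMap L A) = b.comp (algebraMap L A) → ∃ g, b = a.comp (rr g).toRingHom)
    (hlift : ∀ (E : Type u) [CommRing E] (φ : L →+* E), NC n (Spec (CommRingCat.of E)) →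
        ∃ a : A →+* E, a.comp (algebraMap L A) = φ)
    (hinj : Function.Injective (fromO ε))
    (y : PrimeSpectrum B) (hy : y ≠ closedPoint B) :
    letI : Algebra O B := (fromO ε).toAlgebra
    LocAt O B L A (fun i : Fin r => fromC ε (x i.castSucc)) y := by
  let _ : Algebra O B := (fromO ε).toAlgebra
  obtain ⟨B', _, _, p, hp, hpy⟩ := exists_isStrictLoc (Spec (CommRingCat.of B)) y
  obtain ⟨φ, rfl⟩ : ∃ φ : B →+* B', spm φ = p := ⟨(Spec.preimage p).hom, Spec.map_preimage p⟩
  let _ : Algebra B B' := φ.toAlgebra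
  obtain ⟨hB'd, hB'i, hφinj⟩ := SLTools.normal_of_isStrictLoc φ hp
  have hφy : comap φ (closedPoint B') = y := hpy
  let M : Submonoid B' := Algebra.algebraMapSubmonoid B' (mo O B)
  have hM : M = (nonZeroDivisors O).map (fromO (φ.comp ε)) := Submonoid.map_map _ _ _
  let E := Localization M
  have hM0 : M ≤ nonZeroDivisors B' := by
    rw [hM]
    rintro _ ⟨o, ho, rfl⟩
    apply mem_nonZeroDivisors_of_ne_zero
    intro h0
    apply nonZeroDivisors.ne_zero ho
    apply hinj
    apply hφinj
    rw [map_zero, map_zero]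
    exact h0
  have hEd : IsDomain E := IsLocalization.isDomain_of_le_nonZeroDivisors E hM0
  have hu : ∀ m : mo O B, IsUnit ((algebraMap B E) m) := by
    intro m
    rw [IsScalarTower.algebraMap_apply B B' E]
    exact IsLocalization.map_units E (⟨algebraMap B B' m, m, m.2, rfl⟩ : M)
  have hL : IsLocalization (mo O B) L := ‹IsLocalization ((nonZeroDivisors O).map (fromO ε)) L›
  let _ : Algebra L E := (IsLocalization.lift (M := mo O B) (S := L) hu).toAlgebra
  have hst : IsScalarTower B L E := IsScalarTower.of_algebraMap_eq' (IsLocalization.lift_comp hu).symm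
  have hE : IsLocalization ((nonZeroDivisors O).map (fromO (φ.comp ε))) E := by
    rw [← hM]
    infer_instance
  have hnc : NC n (Spec (CommRingCat.of E)) := nc_at hP h1 ih hO hk hn ε hε φ hp (by rw [hφy]; exact hy) E
  obtain ⟨a, ha⟩ := hlift E (algebraMap L E) hnc
  let l : A →ₐ[L] E := { a with commutes' := fun z => congrArg (fun k => k z) ha }
  refine ⟨B', E, inferInstance, inferInstance, hB'd, hB'i, inferInstance, inferInstance, inferInstance,
    inferInstance, inferInstance, inferInstance, inferInstance, inferInstance, hp, hφinj, hφy,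
    ⟨G, inferInstance, fun g => l.comp (rr g), fun z hz => FEtAlg.eq_zero_of_family rr hr l z hz⟩, fun hfy => ?_⟩
  have h4 := isConnected_at hO ε hε φ hp (Ideal.span (Set.range fun i : Fin r => x i.castSucc)) (by
    rw [mem_of_map_span]
    intro i
    have h5 := hfy i
    rw [← hφy] at h5
    exact h5) h3
  have h5 : genSet O (fun i : Fin r => fromC ε (x i.castSucc)) B' = {z : PrimeSpectrum B' |
      (Ideal.span (Set.range fun i : Fin r => x i.castSucc)).map (fromC (φ.comp ε)) ≤ z.asIdeal ∧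
      ∀ o : O, fromO (φ.comp ε) o ∈ z.asIdeal → o = 0} := by
    ext z
    rw [Set.mem_ofPred_eq, mem_of_map_span]
    rfl
  rw [h5]
  exact h4

/-- The induction step. -/
theorem step {D C : Type u} [CommRing D] [Algebra.FiniteType ℤ D] [CommRing C] [Algebra D C]
    [Algebra.FiniteType D C] {n k r : ℕ} {x : Fin (r + 1) → C} (hP : Pre D C x)
    (h1 : ∀ y : Spec (CommRingCat.of C), (∃ j, x j ∉ y.asIdeal) → AsphAt n (spm (algebraMap D C)) y)
    (h2 : Asph n (spm (algebraMap D (C ⧸ Ideal.span (Set.range fun i : Fin r => x i.castSucc)))))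
    (h3 : K548.Good.IsGood (spm (algebraMap D (C ⧸ Ideal.span (Set.range fun i : Fin r => x i.castSucc)))))
    (ih : RingAsph n k D C) : RingAsph n (k + 1) D C := by
  intro O B L _ _ _ _ _ _ _ hO hk hn ε hε hl _
  have hd := hO.isDomain
  have hic := isIntegrallyClosed hO
  by_cases hx : ∃ j, fromC ε (x j) ∉ maximalIdeal B
  · obtain ⟨j, hj⟩ := hx
    exact nc_of_asphAt hO hn ε hε hl (h1 _ ⟨j, hj⟩) L
  push Not at hx
  have hB := hε.henselian
  have hB' := hε.sepClosed
  by_cases hf : IsField O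
  · have hM : ∀ m ∈ (nonZeroDivisors O).map (fromO ε), IsUnit m := by
      rintro _ ⟨o, ho, rfl⟩
      have h4 : IsUnit o := by
        let _ := hf.toField
        exact isUnit_iff_ne_zero.2 (nonZeroDivisors.ne_zero ho)
      exact h4.map _
    let e : B ≃ₐ[B] L := IsLocalization.atUnits B ((nonZeroDivisors O).map (fromO ε)) hM
    have h5 : IsIso (spm (algebraMap B L)) := by
      have h6 : Function.Bijective (algebraMap B L) := by
        have h7 : (algebraMap B L : B → L) = e := by
          ext b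
          exact (e.commutes b).symm
        rw [h7]
        exact e.bijective
      exact isIso_spm _ h6
    exact FEtAlg.nc_of_iso (asIso (spm (algebraMap B L))) (nc_of_strictlyHenselian n B)
  intro G _ _ hG P ρ hPr
  obtain ⟨A, _, _, _, _, rr, hr, hlift⟩ := FEtAlg.exists_algebra P ρ hPr
  have hlift' : ∀ (E : Type u) [CommRing E] (φ : L →+* E), NC n (Spec (CommRingCat.of E)) →
      ∃ a : A →+* E, a.comp (algebraMap L A) = φ := fun E _ φ hE =>
    (hlift E φ).1 (FEtAlg.exists_lift_of_nc hE (spm φ) G hG P ρ hPr)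
  obtain ⟨hT1, hT2, hT3⟩ := NormTens.normal_tensor D C O (fun E _ _ _ _ _ =>
    ⟨(hP.bc E).1, (hP.bc E).2.1, (hP.bc E).2.2.1⟩)
  obtain ⟨hBd, hBi, hinj⟩ := SLTools.normal_of_isStrictLoc ε hε
  have hOB : Function.Injective (fromO ε) := injective_fromO hT1 hT3 ε hinj
  let 𝔞 := Ideal.span (Set.range fun i : Fin r => x i.castSucc)
  have h𝔞 : 𝔞.map (fromC ε) ≤ maximalIdeal B := (mem_of_map_span _ _ _).2 fun i => hx _
  have hI : (𝔞.map (fromC ε)).map (algebraMap B L) =
      Ideal.span (Set.range fun i : Fin r => algebraMap B L (fromC ε (x i.castSucc))) := by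
    rw [Ideal.map_map, Ideal.map_span]
    congr 1
    ext z
    constructor
    · rintro ⟨_, ⟨i, rfl⟩, rfl⟩
      exact ⟨i, rfl⟩
    · rintro ⟨i, rfl⟩
      exact ⟨_, ⟨i, rfl⟩, rfl⟩
  have hq1 := connectedSpace_quot hO ε hε hl 𝔞 h𝔞 L h3
  have hq2 := nc_quot hO ε hε hl 𝔞 h𝔞 L hn h2
  rw [hI] at hq1 hq2
  obtain ⟨σ0, hσ0⟩ := hlift' _ (algebraMap L _) hq2
  let σ : A →ₐ[L] L ⧸ Ideal.span (Set.range fun i : Fin r => algebraMap B L (fromC ε (x i.castSucc))) :=
    { σ0 with commutes' := fun z => congrArg (fun k => k z) hσ0 }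
  let _ : Algebra O B := (fromO ε).toAlgebra
  have hL : IsLocalization (mo O B) L := ‹IsLocalization ((nonZeroDivisors O).map (fromO ε)) L›
  obtain ⟨s⟩ := CoreSec.exists_section (O := O) (B := B) (L := L) (A := A)
    (fun i : Fin r => fromC ε (x i.castSucc)) hOB (by
      obtain ⟨o, ho, ho0⟩ := (Submodule.ne_bot_iff _).1 (IsLocalRing.isField_iff_maximalIdeal_eq.not.1 hf)
      exact ⟨o, ho0, map_nonunit (fromO ε) o ho⟩)
    (fun y hy => locAt hP h1 h3 ih hO hk hn ε hε L A rr hr hlift' hOB y hy)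
    (fun N _ _ _ _ _ _ hN => preconnected_punctured hP hO hf ε hε hl hx N hN)
    (by
      intro h0
      have h4 : Nonempty (PrimeSpectrum (L ⧸ Ideal.span (Set.range fun i : Fin r =>
        algebraMap B L (fromC ε (x i.castSucc))))) := hq1.toNonempty
      obtain ⟨z⟩ := h4
      have h5 : Nontrivial (L ⧸ Ideal.span (Set.range fun i : Fin r =>
        algebraMap B L (fromC ε (x i.castSucc)))) := z.nontrivial
      exact (Ideal.Quotient.nontrivial_iff.1 h5) h0)
    (fun e he => idem_trivial he) σ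
  obtain ⟨l, hl'⟩ := (hlift L (RingHom.id L)).2 ⟨s.toRingHom, s.comp_algebraMap⟩
  refine ⟨⟨l, ?_⟩⟩
  have h6 : l ≫ P.hom = 𝟙 (Spec (CommRingCat.of L)) := by
    rw [hl', spm_id]
  exact h6

/-- **The bad point step.** -/
theorem lApAt {D C : Type u} [CommRing D] [Algebra.FiniteType ℤ D] [CommRing C] [Algebra D C]
    [Algebra.FiniteType D C] {n r : ℕ} {x : Fin (r + 1) → C} (hP : Pre D C x)
    (h1 : ∀ y : Spec (CommRingCat.of C), (∃ j, x j ∉ y.asIdeal) → AsphAt n (spm (algebraMap D C)) y)
    (h2 : Asph n (spm (algebraMap D (C ⧸ Ideal.span (Set.range fun i : Fin r => x i.castSucc)))))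
    (h3 : K548.Good.IsGood (spm (algebraMap D (C ⧸ Ideal.span (Set.range fun i : Fin r => x i.castSucc)))))
    (y : Spec (CommRingCat.of C)) : LApAt n (spm (algebraMap D C)) y := by
  refine lApAt_of_ringAsph (fun k => ?_) y
  induction k with
  | zero =>
    intro O B L _ _ _ _ _ _ _ hO hk
    exact absurd hk not_rk_zero
  | succ k ih => exact step hP h1 h2 h3 ih

end K168.BadPoint
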