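import Groth.Agent.EtAcyc.K168.BadTools
import Groth.Agent.Sga1.StrictSection

/-!
# Tools for the bad point step: quotients
-/

set_option autoImplicit false
universe u

open TensorProduct PrimeSpectrum IsLocalRing CategoryTheory CategoryTheory.Limits AlgebraicGeometry

namespace K168.BadQuot

open Groth.Agent.Etrest.StrictLoc Groth.Agent.Sga1.UlaSL AsphDef Groth.Agent.Flat2E.AIC1 RingForm BadTools

/-- Principal covers of strictly henselian local schemes have sections. -/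
theorem nc_of_strictlyHenselian (n : ℕ) (B : Type u) [CommRing B] [HenselianLocalRing B]
    [IsSepClosed (ResidueField B)] : NC n (Spec (CommRingCat.of B)) := by
  intro G _ _ _ P ρ hP
  have hE : Etale P.hom := P.prop.2
  obtain ⟨p, hp⟩ := hP.1 (closedPoint B)
  obtain ⟨s, hs⟩ := Groth.Agent.Sga1.StrictSection.exists_section_of_strictlyHenselian (X := P.left) P.hom p hp
  exact ⟨⟨s, hs⟩⟩

variable {D C O B : Type u} [CommRing D] [CommRing C] [Algebra D C] [CommRing O] [Algebra D O]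
  [CommRing B] [IsLocalRing B]

theorem isStrictLoc_quot' {T : Type u} [CommRing T] (ε : T →+* B) (h : IsStrictLoc (spm ε)) (J : Ideal T)
    (K : Ideal B) (hK : J.map ε = K) (hK' : K ≤ maximalIdeal B) :
    ∃ _ : IsLocalRing (B ⧸ K), IsStrictLoc (spm (Ideal.quotientMap K ε (Ideal.map_le_iff_le_comap.1 hK.le))) := by
  subst hK
  exact SLTools.isStrictLoc_quot ε h J hK'

/-- Closed subschemes. -/
theorem exists_quot (ε : O ⊗[D] C →+* B) (hε : IsStrictLoc (spm ε)) (hl : IsLocalHom (fromO ε)) (𝔞 : Ideal C)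
    (h𝔞 : 𝔞.map (fromC ε) ≤ maximalIdeal B) :
    ∃ (_ : IsLocalRing (B ⧸ 𝔞.map (fromC ε))) (ε' : O ⊗[D] (C ⧸ 𝔞) →+* B ⧸ 𝔞.map (fromC ε)),
      IsStrictLoc (spm ε') ∧ IsLocalHom (fromO ε') ∧
      fromO ε' = (Ideal.Quotient.mk (𝔞.map (fromC ε))).comp (fromO ε) ∧
      (fromC ε').comp (Ideal.Quotient.mk 𝔞) = (Ideal.Quotient.mk (𝔞.map (fromC ε))).comp (fromC ε) := by
  let iC : C →ₐ[D] O ⊗[D] C := Algebra.TensorProduct.includeRight
  let J : Ideal (O ⊗[D] C) := 𝔞.map iC
  have hJ : J.map ε = 𝔞.map (fromC ε) := Ideal.map_map _ _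
  obtain ⟨i1, h1⟩ := isStrictLoc_quot' ε hε J (𝔞.map (fromC ε)) hJ h𝔞
  let K := 𝔞.map (fromC ε)
  let e : O ⊗[D] (C ⧸ 𝔞) ≃ₐ[O] (O ⊗[D] C) ⧸ J := Algebra.TensorProduct.tensorQuotientEquiv (R := D) O C O 𝔞
  let g : (O ⊗[D] C) ⧸ J →+* B ⧸ K := Ideal.quotientMap K ε (Ideal.map_le_iff_le_comap.1 hJ.le)
  let ε' : O ⊗[D] (C ⧸ 𝔞) →+* B ⧸ K := g.comp e.toRingEquiv.toRingHom
  have hfO : fromO ε' = (Ideal.Quotient.mk K).comp (fromO ε) := by
    ext o
    have h2 : e (algebraMap O _ o) = algebraMap O _ o := e.commutes o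
    change g (e (algebraMap O _ o)) = _
    rw [h2]
    rfl
  refine ⟨i1, ε', ?_, ?_, hfO, ?_⟩
  · have h2 : IsIso (spm e.toRingEquiv.toRingHom) := isIso_spm _ e.bijective
    rw [spm_comp]
    exact h1.comp (spm e.toRingEquiv.toRingHom)
  · rw [hfO]
    have h2 : IsLocalHom (Ideal.Quotient.mk K) := IsLocalHom.of_surjective (Ideal.Quotient.mk K) Ideal.Quotient.mk_surjective
    exact RingHom.isLocalHom_comp _ _
  · ext c
    rfl

section gen

variable (hO : TP O) (ε : O ⊗[D] C →+* B) (hε : IsStrictLoc (spm ε)) (hl : IsLocalHom (fromO ε)) (𝔞 : Ideal C)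
  (h𝔞 : 𝔞.map (fromC ε) ≤ maximalIdeal B)

include hO hε hl h𝔞

/-- The generic part of a closed subset is connected. -/
theorem isConnected_genSet (hg : K548.Good.IsGood (spm (algebraMap D (C ⧸ 𝔞)))) :
    _root_.IsConnected {z : PrimeSpectrum B | 𝔞.map (fromC ε) ≤ z.asIdeal ∧
      ∀ o : O, fromO ε o ∈ z.asIdeal → o = 0} := by
  have hd := hO.isDomain
  obtain ⟨i1, ε', h1, h2, h3, h4⟩ := exists_quot ε hε hl 𝔞 h𝔞
  let K := 𝔞.map (fromC ε)
  let M := (nonZeroDivisors O).map (fromO ε')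
  let L := Localization M
  have h5 : ConnectedSpace (PrimeSpectrum L) := connectedSpace_of_isGood hO ε' h1 h2 hg L
  let f : PrimeSpectrum L → PrimeSpectrum B := comap (Ideal.Quotient.mk K) ∘ comap (algebraMap (B ⧸ K) L)
  have hf : Continuous f := (continuous_comap (Ideal.Quotient.mk K)).comp (continuous_comap (algebraMap (B ⧸ K) L))
  have h6 : {z : PrimeSpectrum B | K ≤ z.asIdeal ∧ ∀ o : O, fromO ε o ∈ z.asIdeal → o = 0} = Set.range f := by
    rw [Set.range_comp, PrimeSpectrum.localization_comap_range L M]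
    ext z
    constructor
    · rintro ⟨hz1, hz2⟩
      have h7 : z ∈ Set.range (comap (Ideal.Quotient.mk K)) := by
        rw [range_comap_of_surjective _ _ Ideal.Quotient.mk_surjective, Ideal.mk_ker]
        exact hz1
      obtain ⟨w, rfl⟩ := h7
      refine ⟨w, ?_, rfl⟩
      rw [Set.mem_ofPred_eq, Set.disjoint_left]
      rintro _ ⟨o, ho, rfl⟩ how
      apply nonZeroDivisors.ne_zero ho
      apply hz2
      have h8 : fromO ε' o ∈ w.asIdeal := how
      rw [h3] at h8
      exact h8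
    · rintro ⟨w, hw, rfl⟩
      refine ⟨?_, ?_⟩
      · have h7 : comap (Ideal.Quotient.mk K) w ∈ Set.range (comap (Ideal.Quotient.mk K)) := ⟨w, rfl⟩
        rw [range_comap_of_surjective _ _ Ideal.Quotient.mk_surjective, Ideal.mk_ker] at h7
        exact h7
      · intro o ho
        by_contra h0
        rw [Set.mem_ofPred_eq, Set.disjoint_left] at hw
        refine hw (a := fromO ε' o) ⟨o, mem_nonZeroDivisors_of_ne_zero h0, rfl⟩ ?_
        rw [h3]
        exact ho
  rw [h6]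
  exact isConnected_range hf

variable (L : Type u) [CommRing L] [Algebra B L] [IsLocalization ((nonZeroDivisors O).map (fromO ε)) L]

omit [IsLocalRing B] hO hε hl h𝔞 in
theorem isLocalization_quot {ε' : O ⊗[D] (C ⧸ 𝔞) →+* B ⧸ 𝔞.map (fromC ε)}
    (h3 : fromO ε' = (Ideal.Quotient.mk (𝔞.map (fromC ε))).comp (fromO ε)) :
    IsLocalization ((nonZeroDivisors O).map (fromO ε')) (L ⧸ (𝔞.map (fromC ε)).map (algebraMap B L)) := by
  have h7 : IsLocalization (Algebra.algebraMapSubmonoid (B ⧸ 𝔞.map (fromC ε))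
    ((nonZeroDivisors O).map (fromO ε))) (L ⧸ (𝔞.map (fromC ε)).map (algebraMap B L)) := inferInstance
  have h8 : Algebra.algebraMapSubmonoid (B ⧸ 𝔞.map (fromC ε)) ((nonZeroDivisors O).map (fromO ε)) =
      (nonZeroDivisors O).map (fromO ε') := by
    rw [h3]
    exact Submonoid.map_map _ _ _
  rwa [h8] at h7

/-- The generic fibre of a closed subscheme is connected. -/
theorem connectedSpace_quot (hg : K548.Good.IsGood (spm (algebraMap D (C ⧸ 𝔞)))) :
    ConnectedSpace (PrimeSpectrum (L ⧸ (𝔞.map (fromC ε)).map (algebraMap B L))) := by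
  obtain ⟨i1, ε', h1, h2, h3, h4⟩ := exists_quot ε hε hl 𝔞 h𝔞
  have h5 := isLocalization_quot ε 𝔞 L h3
  exact connectedSpace_of_isGood hO ε' h1 h2 hg _

/-- The generic fibre of a closed subscheme is aspherical. -/
theorem nc_quot {n : ℕ} (hn : IsUnit (n : O)) (ha : Asph n (spm (algebraMap D (C ⧸ 𝔞)))) :
    NC n (Spec (CommRingCat.of (L ⧸ (𝔞.map (fromC ε)).map (algebraMap B L)))) := by
  obtain ⟨i1, ε', h1, h2, h3, h4⟩ := exists_quot ε hε hl 𝔞 h𝔞
  have h5 := isLocalization_quot ε 𝔞 L h3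
  exact nc_of_asphAt hO hn ε' h1 h2 (ha _) _

end gen

end K168.BadQuot
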