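import Groth.Agent.EtAcyc.K168.CoreLoc
import Groth.Agent.S0427
import Groth.Agent.Etcore.NormalEtale
import Mathlib.RingTheory.Ideal.GoingDown
import Mathlib.RingTheory.Localization.Integral

/-!
# The algebraic core of the bad point step
-/

set_option autoImplicit false
universe u

open TensorProduct PrimeSpectrum IsLocalRing CategoryTheory AlgebraicGeometry

namespace K168.CoreMain

open Groth.Agent.Etrest.StrictLoc Groth.Agent.Sga1.UlaSL CoreLoc

/-- The multiplicative subset of `B`. -/
abbrev mo (O B : Type u) [CommRing O] [CommRing B] [Algebra O B] : Submonoid B :=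
  Algebra.algebraMapSubmonoid B (nonZeroDivisors O)

/-- The generic part of a closed subset. -/
def genSet (O : Type u) {B : Type u} [CommRing O] [CommRing B] [Algebra O B] {r : ℕ} (f : Fin r → B)
    (B' : Type u) [CommRing B'] [Algebra B B'] : Set (PrimeSpectrum B') :=
  {x | (∀ i, algebraMap B B' (f i) ∈ x.asIdeal) ∧ ∀ o : O, algebraMap B B' (algebraMap O B o) ∈ x.asIdeal → o = 0}

/-- Local data at a point `y` of `Spec B`. -/
def LocAt (O B L A : Type u) [CommRing O] [CommRing B] [CommRing L] [CommRing A] [Algebra O B] [Algebra B L]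
    [Algebra L A] {r : ℕ} (f : Fin r → B) (y : PrimeSpectrum B) : Prop :=
  ∃ (B' E : Type u) (_ : CommRing B') (_ : IsLocalRing B') (_ : IsDomain B') (_ : IsIntegrallyClosed B')
    (_ : CommRing E) (_ : Algebra B B') (_ : Algebra B' E) (_ : Algebra L E) (_ : Algebra B E)
    (_ : IsScalarTower B B' E) (_ : IsScalarTower B L E)
    (_ : IsLocalization (Algebra.algebraMapSubmonoid B' (mo O B)) E),
    IsStrictLoc (spm (algebraMap B B')) ∧ Function.Injective (algebraMap B B') ∧
    comap (algebraMap B B') (closedPoint B') = y ∧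
    (∃ (ι : Type) (_ : Finite ι) (l : ι → A →ₐ[L] E), ∀ x : E ⊗[L] A, (∀ i, sec (l i) x = 0) → x = 0) ∧
    ((∀ i, f i ∈ y.asIdeal) → _root_.IsConnected (genSet O f B'))

section

variable {B L A : Type u} [CommRing B] [CommRing L] [CommRing A] [Algebra B L] [Algebra L A] [Algebra B A]
  [IsScalarTower B L A] (M : Submonoid B) [IsLocalization M L]

include M in
/-- The integral closure is a localization. -/
theorem isLocalization_integralClosure [Algebra.IsIntegral L A] :
    IsLocalization (Algebra.algebraMapSubmonoid (integralClosure B A) M) A := by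
  refine ⟨?_, ?_, ?_⟩
  · rintro ⟨_, ⟨m, hm, rfl⟩⟩
    have h1 : algebraMap (integralClosure B A) A (algebraMap B _ m) = algebraMap L A (algebraMap B L m) := by
      rw [← IsScalarTower.algebraMap_apply, ← IsScalarTower.algebraMap_apply]
    change IsUnit (algebraMap (integralClosure B A) A (algebraMap B _ m))
    rw [h1]
    exact (IsLocalization.map_units L ⟨m, hm⟩).map _
  · intro a
    obtain ⟨m, hm⟩ := IsIntegral.exists_multiple_integral_of_isLocalization M (Rₘ := L) a
      (Algebra.IsIntegral.isIntegral a)
    refine ⟨⟨⟨m • a, hm⟩, ⟨algebraMap B _ m, ⟨m, m.2, rfl⟩⟩⟩, ?_⟩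
    change a * algebraMap B A m = (m : B) • a
    rw [Algebra.smul_def, mul_comm]
  · intro x y hxy
    refine ⟨1, ?_⟩
    rw [Subtype.ext hxy]

include L M in
/-- The integral closure of `B` in a normal algebra, integral over a localization. -/
theorem isIntegrallyClosed_integralClosure [IsDomain A] [IsIntegrallyClosed A] [Algebra.IsIntegral L A] :
    IsIntegrallyClosed (integralClosure B A) := by
  let N := integralClosure B A
  let K := FractionRing A
  have hAK : Function.Injective (algebraMap A K) := IsFractionRing.injective A K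
  have hNK : Function.Injective (algebraMap N K) := by
    rw [IsScalarTower.algebraMap_eq N A K]
    exact hAK.comp Subtype.val_injective
  have hFS : FaithfulSMul N K := (faithfulSMul_iff_algebraMap_injective N K).2 hNK
  have hloc := isLocalization_integralClosure (L := L) (A := A) M
  have hfr : IsFractionRing N K := by
    refine IsFractionRing.of_field N K fun z => ?_
    obtain ⟨a, a', ha', rfl⟩ := IsFractionRing.div_surjective (A := A) z
    obtain ⟨⟨n, m⟩, hn⟩ := IsLocalization.surj (Algebra.algebraMapSubmonoid N M) a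
    obtain ⟨⟨n', m'⟩, hn'⟩ := IsLocalization.surj (Algebra.algebraMapSubmonoid N M) a'
    refine ⟨n * m', n' * m, ?_⟩
    have hm : algebraMap N K m ≠ 0 := by
      rw [IsScalarTower.algebraMap_apply N A K]
      exact (map_ne_zero_iff _ hAK).2 (IsLocalization.map_units A m).ne_zero
    have hm' : algebraMap N K m' ≠ 0 := by
      rw [IsScalarTower.algebraMap_apply N A K]
      exact (map_ne_zero_iff _ hAK).2 (IsLocalization.map_units A m').ne_zero
    have ha'0 : algebraMap A K a' ≠ 0 := (map_ne_zero_iff _ hAK).2 (nonZeroDivisors.ne_zero ha')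
    have e1 := congrArg (algebraMap A K) hn
    have e2 := congrArg (algebraMap A K) hn'
    rw [map_mul, ← IsScalarTower.algebraMap_apply N A K, ← IsScalarTower.algebraMap_apply N A K] at e1 e2
    rw [map_mul, map_mul, ← e1, ← e2, div_eq_div_iff ha'0 (mul_ne_zero (mul_ne_zero ha'0 hm') hm)]
    ring
  rw [isIntegrallyClosed_iff K]
  intro x hx
  have h1 : IsIntegral B x := isIntegral_trans x hx
  have h2 : IsIntegral A x := h1.tower_top
  obtain ⟨a, rfl⟩ := (IsIntegrallyClosed.isIntegral_iff).1 h2
  have h3 : IsIntegral B a := (isIntegral_algebraMap_iff hAK).1 h1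
  exact ⟨⟨a, h3⟩, rfl⟩

end

/-- The generic part is the image of the spectrum of the quotient. -/
theorem range_eq_genSet {O B A : Type u} [CommRing O] [IsDomain O] [CommRing B] [CommRing A] [Algebra O B]
    [Algebra B A] {r : ℕ} (f : Fin r → B) (N : Type u) [CommRing N] [Algebra B N] [Algebra N A]
    [IsScalarTower B N A] [IsLocalization (Algebra.algebraMapSubmonoid N (mo O B)) A] {Q : Type u} [CommRing Q]
    (q : A →+* Q) (hq : Function.Surjective q)
    (hk : RingHom.ker q = Ideal.span (Set.range fun i => algebraMap B A (f i))) :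
    Set.range (comap (q.comp (algebraMap N A))) = genSet O f N := by
  rw [PrimeSpectrum.comap_comp, Set.range_comp, range_comap_of_surjective _ _ hq, hk]
  ext x
  constructor
  · rintro ⟨y, hy, rfl⟩
    refine ⟨fun i => ?_, fun o ho => ?_⟩
    · have h1 : algebraMap B A (f i) ∈ y.asIdeal := hy (Ideal.subset_span ⟨i, rfl⟩)
      change algebraMap N A (algebraMap B N (f i)) ∈ y.asIdeal
      rwa [← IsScalarTower.algebraMap_apply]
    · by_contra hne
      have h1 : IsUnit (algebraMap N A (algebraMap B N (algebraMap O B o))) :=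
        IsLocalization.map_units A (⟨algebraMap B N (algebraMap O B o),
          ⟨algebraMap O B o, ⟨o, mem_nonZeroDivisors_of_ne_zero hne, rfl⟩, rfl⟩⟩ :
            Algebra.algebraMapSubmonoid N (mo O B))
      exact y.2.ne_top (Ideal.eq_top_of_isUnit_mem _ ho h1)
  · rintro ⟨h1, h2⟩
    have h3 : x ∈ Set.range (comap (algebraMap N A)) := by
      rw [localization_comap_range A (Algebra.algebraMapSubmonoid N (mo O B))]
      change Disjoint _ _
      rw [Set.disjoint_left]
      rintro _ ⟨_, ⟨o, ho, rfl⟩, rfl⟩ h4
      exact nonZeroDivisors.ne_zero ho (h2 o h4)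
    obtain ⟨y, rfl⟩ := h3
    refine ⟨y, ?_, rfl⟩
    change ((Ideal.span _ : Ideal A) : Set A) ⊆ y.asIdeal
    rw [SetLike.coe_subset_coe, Ideal.span_le]
    rintro _ ⟨i, rfl⟩
    have h4 : algebraMap N A (algebraMap B N (f i)) ∈ y.asIdeal := h1 i
    rwa [← IsScalarTower.algebraMap_apply] at h4

/-- Elements of a localization integral over a normal domain. -/
theorem exists_of_isIntegral {B E : Type u} [CommRing B] [IsDomain B] [IsIntegrallyClosed B] [CommRing E] [Algebra B E]
    (M : Submonoid B) [IsLocalization M E] (hM : M ≤ nonZeroDivisors B) (x : E) (hx : IsIntegral B x) :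
    ∃ b, algebraMap B E b = x := by
  let K := FractionRing B
  have hu : ∀ m : M, IsUnit (algebraMap B K m) := fun m => IsLocalization.map_units K ⟨m.1, hM m.2⟩
  let g : E →+* K := IsLocalization.lift hu
  have hg : ∀ b, g (algebraMap B E b) = algebraMap B K b := fun b => IsLocalization.lift_eq hu b
  let _ : Algebra E K := g.toAlgebra
  have hst : IsScalarTower B E K := IsScalarTower.of_algebraMap_eq fun b => (hg b).symm
  have hinj : Function.Injective g := by
    rw [injective_iff_map_eq_zero]
    intro a ha
    obtain ⟨b, m, rfl⟩ := IsLocalization.exists_mk'_eq M a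
    have h1 : g (IsLocalization.mk' E b m) * g (algebraMap B E m) = g (algebraMap B E b) := by
      rw [← map_mul, IsLocalization.mk'_spec]
    rw [ha, zero_mul, hg] at h1
    have h2 : b = 0 := IsFractionRing.injective B K (by rw [← h1, map_zero])
    rw [h2, IsLocalization.mk'_zero]
  have h1 : IsIntegral B (algebraMap E K x) := hx.algebraMap
  obtain ⟨b, hb⟩ := (IsIntegrallyClosed.isIntegral_iff).1 h1
  exact ⟨b, hinj (by rw [hg]; exact hb)⟩

/-- Points of the generic part below a point, from a flat local homomorphism. -/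
theorem genSet_le_eq {O B : Type u} [CommRing O] [CommRing B] [Algebra O B] {r : ℕ} (f : Fin r → B)
    {N B' : Type u} [CommRing N] [Algebra B N] [CommRing B'] [IsLocalRing B'] [Algebra B B'] (τ : N →+* B')
    (hfl : τ.Flat) (hτ : ∀ b, τ (algebraMap B N b) = algebraMap B B' b) (z : PrimeSpectrum N)
    (hz : comap τ (closedPoint B') = z) :
    {x | x ∈ genSet O f N ∧ x ≤ z} = comap τ '' genSet O f B' := by
  ext x
  constructor
  · rintro ⟨⟨h1, h2⟩, h3⟩
    let _ : Algebra N B' := τ.toAlgebra
    have hfl' : Module.Flat N B' := hfl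
    have h4 : Algebra.HasGoingDown N B' := inferInstance
    rw [Algebra.HasGoingDown.iff_generalizingMap_primeSpectrumComap] at h4
    obtain ⟨x', hx', rfl⟩ := h4 (a := closedPoint B') (b := x) (by
      change x ⤳ comap τ (closedPoint B')
      rw [← PrimeSpectrum.le_iff_specializes, hz]
      exact h3)
    refine ⟨x', ⟨fun i => ?_, fun o ho => ?_⟩, rfl⟩
    · have h5 : τ (algebraMap B N (f i)) ∈ x'.asIdeal := h1 i
      rwa [hτ] at h5
    · refine h2 o ?_
      change τ (algebraMap B N (algebraMap O B o)) ∈ x'.asIdeal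
      rwa [hτ]
  · rintro ⟨x', ⟨h1, h2⟩, rfl⟩
    refine ⟨⟨fun i => ?_, fun o ho => ?_⟩, ?_⟩
    · change τ (algebraMap B N (f i)) ∈ x'.asIdeal
      rw [hτ]
      exact h1 i
    · refine h2 o ?_
      have h5 : τ (algebraMap B N (algebraMap O B o)) ∈ x'.asIdeal := ho
      rwa [hτ] at h5
    · rw [← hz]
      intro a ha
      exact IsLocalRing.le_maximalIdeal x'.2.ne_top ha

variable {O B L A : Type u} [CommRing O] [IsDomain O] [CommRing B] [IsDomain B] [HenselianLocalRing B]
  [CommRing L] [CommRing A] [Algebra O B] [Algebra B L] [IsLocalization (mo O B) L]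
  [Algebra L A] [Algebra B A] [IsScalarTower B L A] {r : ℕ} (f : Fin r → B)

/-- The case of a domain. -/
theorem bijective_of_isDomain [IsDomain A] [IsIntegrallyClosed A] [Algebra.Etale L A] [Module.Finite L A]
    (hO : Function.Injective (algebraMap O B)) (hm : ∃ o : O, o ≠ 0 ∧ algebraMap O B o ∈ maximalIdeal B)
    (hLA : Function.Injective (algebraMap L A))
    (hloc : ∀ y : PrimeSpectrum B, y ≠ closedPoint B → LocAt O B L A f y)
    (hconn : ∀ (N : Type u) [CommRing N] [IsDomain N] [IsLocalRing N] [IsIntegrallyClosed N] [Algebra B N]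
      [Algebra.IsIntegral B N], Function.Injective (algebraMap B N) →
      _root_.IsPreconnected {x : PrimeSpectrum N | (∀ i, algebraMap B N (f i) ∈ x.asIdeal) ∧ x ≠ closedPoint N})
    (hI : Ideal.span (Set.range fun i => algebraMap B L (f i)) ≠ ⊤)
    (σ : A →ₐ[L] L ⧸ (Ideal.span (Set.range fun i => algebraMap B L (f i)))) :
    Function.Bijective (algebraMap L A) := by
  have hMB : mo O B ≤ nonZeroDivisors B := by
    rintro _ ⟨o, ho, rfl⟩
    rw [mem_nonZeroDivisors_iff_ne_zero]
    intro h
    exact nonZeroDivisors.ne_zero ho (hO (by rw [h, map_zero]))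
  have hBL : Function.Injective (algebraMap B L) := IsLocalization.injective L hMB
  have hLd : IsDomain L := IsLocalization.isDomain_of_le_nonZeroDivisors L hMB
  have hBA : Function.Injective (algebraMap B A) := by
    rw [IsScalarTower.algebraMap_eq B L A]
    exact hLA.comp hBL
  have hint : Algebra.IsIntegral L A := inferInstance
  set I : Ideal L := Ideal.span (Set.range fun i => algebraMap B L (f i)) with hIdef
  let N := integralClosure B A
  have hNloc : IsLocalRing N := Groth.Agent.S0427.isLocalRing_of_isIntegral B N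
  have hNic : IsIntegrallyClosed N := isIntegrallyClosed_integralClosure (L := L) (mo O B)
  have hBN : Function.Injective (algebraMap B N) := by
    refine Function.Injective.of_comp (f := algebraMap N A) ?_
    rw [← RingHom.coe_comp, ← IsScalarTower.algebraMap_eq]
    exact hBA
  have hNA : IsLocalization (Algebra.algebraMapSubmonoid N (mo O B)) A :=
    isLocalization_integralClosure (L := L) (mo O B)
  let iR : A →+* (L ⧸ I) ⊗[L] A := (Algebra.TensorProduct.includeRight : A →ₐ[L] (L ⧸ I) ⊗[L] A).toRingHom
  have hsurj : Function.Surjective iR :=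
    Algebra.TensorProduct.includeRight_surjective (R := L) (S := L ⧸ I) (T := A) Ideal.Quotient.mk_surjective
  have hker : RingHom.ker iR = Ideal.span (Set.range fun i => algebraMap B A (f i)) := by
    have h1 : Ideal.span (Set.range fun i => algebraMap B A (f i)) = I.map (algebraMap L A) := by
      rw [hIdef, Ideal.map_span, ← Set.range_comp]
      congr 2
      funext i
      exact IsScalarTower.algebraMap_apply B L A (f i)
    rw [h1]
    ext a
    have h2 : a ∈ I.map (algebraMap L A) ↔ a ∈ (I • (⊤ : Submodule L A)) := by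
      rw [Ideal.smul_top_eq_map]
      rfl
    rw [h2, RingHom.mem_ker, ← Submodule.Quotient.mk_eq_zero, ← quotTensorEquivQuotSMul_mk_one_tmul,
      map_eq_zero_iff _ (quotTensorEquivQuotSMul A I).injective]
    rfl
  have hind : Topology.IsInducing (comap (iR.comp (algebraMap N A))) := by
    have h1 : Topology.IsInducing (comap (algebraMap N A)) :=
      localization_comap_isInducing A (Algebra.algebraMapSubmonoid N (mo O B))
    have h2 := comap_isInducing_of_surjective _ iR hsurj
    exact h1.comp h2
  have hrange : Set.range (comap (iR.comp (algebraMap N A))) = genSet O f N := range_eq_genSet f N iR hsurj hker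
  have hLH : IsLocalHom (algebraMap B N) :=
    RingHom.IsIntegral.isLocalHom (algebraMap_isIntegral_iff.2 inferInstance) hBN
  have key : ∀ z : PrimeSpectrum N, (∀ i, algebraMap B N (f i) ∈ z.asIdeal) → z ≠ closedPoint N →
      _root_.IsConnected {x | x ∈ genSet O f N ∧ x ≤ z} := by
    intro z hz hz'
    have hy : comap (algebraMap B N) z ≠ closedPoint B := by
      intro h
      apply hz'
      apply PrimeSpectrum.ext
      have h1 : (Ideal.comap (algebraMap B N) z.asIdeal).IsMaximal := by
        have h2 : Ideal.comap (algebraMap B N) z.asIdeal = maximalIdeal B := congrArg PrimeSpectrum.asIdeal h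
        rw [h2]
        infer_instance
      exact IsLocalRing.eq_maximalIdeal (Ideal.isMaximal_of_isIntegral_of_isMaximal_comap z.asIdeal h1)
    obtain ⟨B', E, i1, i2, i3, i4, i5, i6, i7, i8, i9, i10, i11, i12, hsl, hinj', hy', ⟨ι, _, l, hl⟩, hc⟩ :=
      hloc _ hy
    have hpo : Algebra.IsPushout B B' L E := Algebra.isPushout_of_isLocalization (mo O B) L B' E
    have hMB' : Algebra.algebraMapSubmonoid B' (mo O B) ≤ nonZeroDivisors B' := by
      rintro _ ⟨b, hb, rfl⟩
      rw [mem_nonZeroDivisors_iff_ne_zero, Ne, map_eq_zero_iff _ hinj']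
      exact nonZeroDivisors.ne_zero (hMB hb)
    have hic : ∀ x : E, IsIntegral B' x → ∃ b, algebraMap B' E b = x :=
      exists_of_isIntegral (Algebra.algebraMapSubmonoid B' (mo O B)) hMB'
    have hinjE : Function.Injective (algebraMap B' E) := IsLocalization.injective E hMB'
    obtain ⟨τ, i, hτ1, -, hτ2, hτ3⟩ := exists_loc hsl hic hinjE l hl z hy'.symm
    have hfl : τ.Flat := by
      have h1 := weaklyEtale_of_isStrictLoc hτ3
      have h2 : Flat (spm τ) := inferInstance
      exact (HasRingHomProperty.Spec_iff (P := @Flat)).1 h2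
    rw [genSet_le_eq f τ hfl hτ1 z hτ2]
    exact (hc fun i => hz i).image _ (PrimeSpectrum.continuous_comap τ).continuousOn
  refine CoreTop.bijective_of_section I hI σ ?_
  intro e he
  refine CoreTop.idempotent_eq (iR.comp (algebraMap N A)) hind
    {x : PrimeSpectrum N | (∀ i, algebraMap B N (f i) ∈ x.asIdeal) ∧ x ≠ closedPoint N}
    (hconn N hBN) ?_ ?_ ?_ e he
  · rw [hrange]
    rintro x ⟨h1, h2⟩
    refine ⟨h1, ?_⟩
    rintro rfl
    obtain ⟨o, ho, ho'⟩ := hm
    refine ho (h2 o ?_)
    change algebraMap B N (algebraMap O B o) ∈ maximalIdeal N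
    exact (mem_maximalIdeal _).2 (map_nonunit (algebraMap B N) _ ((mem_maximalIdeal _).1 ho'))
  · rintro z ⟨hz, hz'⟩
    rw [hrange]
    exact (key z hz hz').nonempty
  · rintro z ⟨hz, hz'⟩
    rw [hrange]
    exact (key z hz hz').isPreconnected

end K168.CoreMain
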