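import Groth.Agent.EtAcyc.K168.RingForm
import Groth.Agent.EtAcyc.K168.CoreMain
import Groth.Agent.Hensel.Exist

/-!
# Tools for the bad point step
-/

set_option autoImplicit false
universe u

open TensorProduct PrimeSpectrum IsLocalRing CategoryTheory CategoryTheory.Limits AlgebraicGeometry

namespace K168.BadTools

open Groth.Agent.Etrest.StrictLoc Groth.Agent.Sga1.UlaSL AsphDef Groth.Agent.Flat2E.AIC1 RingForm

/-- A strict localization has exactly one point over the point at which one localizes. -/
theorem eq_closedPoint {X : Scheme.{u}} {C : Type u} [CommRing C] [IsLocalRing C]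
    {τ : Spec (CommRingCat.of C) ⟶ X} (hτ : IsStrictLoc τ) (y : Spec (CommRingCat.of C))
    (hy : τ y = τ (closedPoint C)) : y = closedPoint C := by
  obtain ⟨alg, loc, sh, h2⟩ := exists_specOf hτ _ rfl
  have h3 := Groth.Agent.Hensel.Exist.map_maximalIdeal_of_isStrictHenselization
    (R := X.presheaf.stalk (τ (closedPoint C))) (S := C)
  have h4 : spm (algebraMap (X.presheaf.stalk (τ (closedPoint C))) C) y =
      closedPoint (X.presheaf.stalk (τ (closedPoint C))) := by
    apply (X.fromSpecStalk (τ (closedPoint C))).injective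
    rw [Scheme.fromSpecStalk_closedPoint, ← Scheme.Hom.comp_apply]
    exact (congrArg (fun q : Spec (CommRingCat.of C) ⟶ X => q y) h2).trans hy
  have h5 : maximalIdeal C ≤ y.asIdeal := by
    rw [← h3, Ideal.map_le_iff_le_comap]
    exact (congrArg PrimeSpectrum.asIdeal h4).ge
  exact PrimeSpectrum.ext ((maximalIdeal.isMaximal C).eq_of_le y.isPrime.ne_top h5).symm

variable {D C O B : Type u} [CommRing D] [CommRing C] [Algebra D C] [CommRing O] [Algebra D O]
  [CommRing B] [IsLocalRing B]

/-- Away from the bad locus. -/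
theorem exists_notMem [IsLocalRing O] {m : ℕ} (x : Fin m → C)
    (hfin : (MvPolynomial.aeval x : MvPolynomial (Fin m) D →ₐ[D] C).toRingHom.Finite)
    (ε : O ⊗[D] C →+* B) (hε : IsStrictLoc (spm ε)) (y : PrimeSpectrum B) (hy : y ≠ closedPoint B)
    (hyO : y.asIdeal.comap (fromO ε) = maximalIdeal O) : ∃ j, fromC ε (x j) ∉ y.asIdeal := by
  by_contra hcon
  push Not at hcon
  apply hy
  let P : Ideal (O ⊗[D] C) := y.asIdeal.comap ε
  have hP : P.IsPrime := inferInstance
  let K := (O ⊗[D] C) ⧸ P
  let iC : C →ₐ[D] O ⊗[D] C := Algebra.TensorProduct.includeRight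
  let ψ : C →+* K := (Ideal.Quotient.mk P).comp iC.toRingHom
  let θ : MvPolynomial (Fin m) D →+* O := (MvPolynomial.aeval (fun _ => (0 : O))).toRingHom
  have hθ : (algebraMap O K).comp θ =
      ψ.comp (MvPolynomial.aeval x : MvPolynomial (Fin m) D →ₐ[D] C).toRingHom := by
    apply MvPolynomial.ringHom_ext
    · intro d
      have h1 : θ (MvPolynomial.C d) = algebraMap D O d := by simp [θ]
      have h2 : (MvPolynomial.aeval x : MvPolynomial (Fin m) D →ₐ[D] C).toRingHom (MvPolynomial.C d) =
        algebraMap D C d := by simp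
      have h3 : iC (algebraMap D C d) = algebraMap D (O ⊗[D] C) d := iC.commutes d
      have h4 : algebraMap O (O ⊗[D] C) (algebraMap D O d) = algebraMap D (O ⊗[D] C) d :=
        (IsScalarTower.algebraMap_apply D O (O ⊗[D] C) d).symm
      change algebraMap O K (θ (MvPolynomial.C d)) = Ideal.Quotient.mk P (iC _)
      rw [h1, h2, h3, ← h4]
      rfl
    · intro j
      have h1 : θ (MvPolynomial.X j) = 0 := by simp [θ]
      have h2 : (MvPolynomial.aeval x : MvPolynomial (Fin m) D →ₐ[D] C).toRingHom (MvPolynomial.X j) =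
        x j := by simp
      change algebraMap O K (θ (MvPolynomial.X j)) = Ideal.Quotient.mk P (iC _)
      rw [h1, h2, map_zero]
      exact ((Ideal.Quotient.eq_zero_iff_mem (I := P)).2 (hcon j)).symm
  have hint : ∀ c : C, IsIntegral O (ψ c) := by
    intro c
    obtain ⟨p, hp, hpc⟩ := hfin.to_isIntegral c
    refine ⟨p.map θ, hp.map θ, ?_⟩
    rw [Polynomial.eval₂_map, hθ, ← Polynomial.hom_eval₂, hpc, map_zero]
  have hint' : Algebra.IsIntegral O K := by
    refine ⟨fun k => ?_⟩
    obtain ⟨t, rfl⟩ := Ideal.Quotient.mk_surjective k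
    induction t with
    | zero =>
      rw [map_zero]
      exact isIntegral_zero
    | tmul o c =>
      have h1 : (o ⊗ₜ[D] c : O ⊗[D] C) = algebraMap O _ o * iC c := by
        change _ = (o ⊗ₜ[D] 1) * (1 ⊗ₜ[D] c)
        rw [Algebra.TensorProduct.tmul_mul_tmul, mul_one, one_mul]
      rw [h1, map_mul]
      exact (isIntegral_algebraMap (R := O) (A := K) (x := o)).mul (hint c)
    | add a b ha hb =>
      rw [map_add]
      exact ha.add hb
  have hker : (⊥ : Ideal K).comap (algebraMap O K) = maximalIdeal O := by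
    rw [← hyO]
    ext o
    change algebraMap O K o = 0 ↔ _
    exact Ideal.Quotient.eq_zero_iff_mem
  have hmax : (⊥ : Ideal K).IsMaximal :=
    Ideal.isMaximal_of_isIntegral_of_isMaximal_comap (R := O) (S := K) ⊥
      (by rw [hker]; exact maximalIdeal.isMaximal O)
  have hPmax : P.IsMaximal := by
    have h1 := Ideal.comap_isMaximal_of_surjective (Ideal.Quotient.mk P) Ideal.Quotient.mk_surjective
      (K := (⊥ : Ideal K))
    have h2 : Ideal.comap (Ideal.Quotient.mk P) ⊥ = P := Ideal.mk_ker
    rwa [h2] at h1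
  refine eq_closedPoint hε y ?_
  apply PrimeSpectrum.ext
  change P = (maximalIdeal B).comap ε
  exact hPmax.eq_of_le (Ideal.IsPrime.ne_top inferInstance) (Ideal.comap_mono (IsLocalRing.le_maximalIdeal
    (Ideal.IsPrime.ne_top inferInstance)))

/-- Localization of the base ring. -/
theorem exists_localized (ε : O ⊗[D] C →+* B) (hε : IsStrictLoc (spm ε)) (q : Ideal O) [q.IsPrime]
    (hq : (maximalIdeal B).comap (fromO ε) = q) :
    ∃ ε' : Localization.AtPrime q ⊗[D] C →+* B, IsStrictLoc (spm ε') ∧ IsLocalHom (fromO ε') ∧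
      fromC ε' = fromC ε ∧ (fromO ε').comp (algebraMap O (Localization.AtPrime q)) = fromO ε := by
  let O' := Localization.AtPrime q
  have hu : ∀ s : q.primeCompl, IsUnit (fromO ε s) := by
    intro s
    by_contra h
    have h' : (s : O) ∈ (maximalIdeal B).comap (fromO ε) := h
    rw [hq] at h'
    exact s.2 h'
  let ψ0 : O' →+* B := IsLocalization.lift hu
  have hψ0 : ψ0.comp (algebraMap O O') = fromO ε := IsLocalization.lift_comp hu
  let _ : Algebra D B := ((fromC ε).comp (algebraMap D C)).toAlgebra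
  have hDB : algebraMap D B = (fromC ε).comp (algebraMap D C) := rfl
  have hDB' : algebraMap D B = (fromO ε).comp (algebraMap D O) := by
    ext d
    have h3 : (Algebra.TensorProduct.includeRight : C →ₐ[D] O ⊗[D] C) (algebraMap D C d) =
      algebraMap D (O ⊗[D] C) d := AlgHom.commutes _ d
    have h4 : algebraMap O (O ⊗[D] C) (algebraMap D O d) = algebraMap D (O ⊗[D] C) d :=
      (IsScalarTower.algebraMap_apply D O (O ⊗[D] C) d).symm
    change ε ((Algebra.TensorProduct.includeRight : C →ₐ[D] O ⊗[D] C) (algebraMap D C d)) =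
      ε (algebraMap O (O ⊗[D] C) (algebraMap D O d))
    rw [h3, h4]
  let ψ : O' →ₐ[D] B := { ψ0 with
    commutes' := fun d => by
      rw [IsScalarTower.algebraMap_apply D O O', hDB', ← hψ0]
      rfl }
  let φ : C →ₐ[D] B := { fromC ε with commutes' := fun d => rfl }
  let ε'a : O' ⊗[D] C →ₐ[D] B := Algebra.TensorProduct.lift ψ φ (fun _ _ => Commute.all _ _)
  let ε' : O' ⊗[D] C →+* B := ε'a.toRingHom
  let j : O ⊗[D] C →+* O' ⊗[D] C :=
    (Algebra.TensorProduct.map (IsScalarTower.toAlgHom D O O') (AlgHom.id D C)).toRingHom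
  have hfO : fromO ε' = ψ0 := by
    ext o
    change ε'a (o ⊗ₜ 1) = ψ0 o
    rw [Algebra.TensorProduct.lift_tmul, map_one, mul_one]
    rfl
  have hfC : fromC ε' = fromC ε := by
    ext c
    change ε'a (1 ⊗ₜ c) = _
    rw [Algebra.TensorProduct.lift_tmul, map_one, one_mul]
    rfl
  have hj : ε'.comp j = ε := by
    refine RingHom.ext fun t => ?_
    induction t with
    | zero => simp
    | tmul o c =>
      change ε'a (Algebra.TensorProduct.map (IsScalarTower.toAlgHom D O O') (AlgHom.id D C) (o ⊗ₜ c)) = _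
      rw [Algebra.TensorProduct.map_tmul, Algebra.TensorProduct.lift_tmul]
      have h1 : (o ⊗ₜ[D] c : O ⊗[D] C) =
          algebraMap O _ o * (Algebra.TensorProduct.includeRight : C →ₐ[D] O ⊗[D] C) c := by
        change _ = (o ⊗ₜ[D] 1) * (1 ⊗ₜ[D] c)
        rw [Algebra.TensorProduct.tmul_mul_tmul, mul_one, one_mul]
      have h2 : ψ0 (algebraMap O O' o) = fromO ε o := congrArg (fun k => k o) hψ0
      rw [h1, map_mul]
      exact congrArg (· * fromC ε c) h2
    | add a b ha hb => rw [map_add, map_add, ha, hb]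
  have hP : IsPullback (spm j) (spm (algebraMap O' (O' ⊗[D] C))) (spm (algebraMap O (O ⊗[D] C)))
      (spm (algebraMap O O')) := by
    have h1 := isPullback_tensor D C O
    have h2 := isPullback_tensor D C O'
    refine IsPullback.of_right (h₁₂ := spm (Algebra.TensorProduct.includeRight : C →ₐ[D] O ⊗[D] C).toRingHom)
      (v₁₃ := spm (algebraMap D C)) (h₂₂ := spm (algebraMap D O)) ?_ ?_ h1
    · rw [← spm_comp, ← spm_comp, ← IsScalarTower.algebraMap_eq]
      have h3 : j.comp (Algebra.TensorProduct.includeRight : C →ₐ[D] O ⊗[D] C).toRingHom =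
          (Algebra.TensorProduct.includeRight : C →ₐ[D] O' ⊗[D] C).toRingHom := by
        ext c
        change Algebra.TensorProduct.map (IsScalarTower.toAlgHom D O O') (AlgHom.id D C) (1 ⊗ₜ c) = 1 ⊗ₜ c
        rw [Algebra.TensorProduct.map_tmul, map_one, AlgHom.id_apply]
      rw [h3]
      exact h2
    · rw [← spm_comp, ← spm_comp, spm_inj]
      ext o
      change Algebra.TensorProduct.map (IsScalarTower.toAlgHom D O O') (AlgHom.id D C) (o ⊗ₜ 1) =
        algebraMap O O' o ⊗ₜ 1
      rw [Algebra.TensorProduct.map_tmul, map_one]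
      rfl
  have hw : WeaklyEtale (spm j) := MorphismProperty.of_isPullback hP.flip
    (SLTools.weaklyEtale_spm_of_isLocalization q.primeCompl)
  refine ⟨ε', ?_, ?_, hfC, ?_⟩
  · have h1 : IsStrictLoc (spm ε' ≫ spm j) := by
      rw [← spm_comp, hj]
      exact hε
    exact h1.of_comp (spm j)
  · rw [hfO]
    refine ⟨fun z hz => ?_⟩
    obtain ⟨a, s, rfl⟩ := IsLocalization.exists_mk'_eq q.primeCompl z
    by_contra hns
    have h1 : a ∈ q := by
      by_contra ha
      exact hns ((IsLocalization.AtPrime.isUnit_mk'_iff O' q a s).2 ha)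
    rw [IsLocalization.lift_mk'] at hz
    have h2 : IsUnit (fromO ε a) := isUnit_of_mul_isUnit_left hz
    rw [← hq] at h1
    exact h1 h2
  · rw [hfO, hψ0]

end K168.BadTools
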