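import Groth.Agent.EtAcyc.K168.AsphDef

/-!
# The statement over domains of finite type over `ℤ`
-/

set_option autoImplicit false
universe u

open CategoryTheory CategoryTheory.Limits AlgebraicGeometry IsLocalRing

namespace K168.ClaimDef

open Groth.Agent.Etrest.StrictLoc AsphDef

/-- Generic universal local asphericity for `Spec C ⟶ Spec D`. -/
def GenAsph (D C : Type u) [CommRing D] [CommRing C] [Algebra D C] : Prop :=
  ∃ d : D, d ≠ 0 ∧ ∀ x : Spec (CommRingCat.of C), algebraMap D C d ∉ x.asIdeal →
    ∀ n : ℕ, AsphAt n (spm (algebraMap D C)) x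

/-- Generic universal local asphericity over domains of finite type over `ℤ`. -/
def Claim : Prop :=
  ∀ (D C : Type u) [CommRing D] [IsDomain D] [Algebra.FiniteType ℤ D] [CommRing C] [Algebra D C]
    [Algebra.FiniteType D C], GenAsph D C

end K168.ClaimDef
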