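import Mathlib.RingTheory.Spectrum.Prime.Topology
import Mathlib.RingTheory.Flat.Rank
import Mathlib.RingTheory.Idempotents
import Mathlib.RingTheory.Etale.Basic
import Mathlib.RingTheory.Ideal.IdempotentFG
import Mathlib.RingTheory.Smooth.Flat

/-!
# Connectedness of generic fibres from local connectedness
-/

set_option autoImplicit false
universe u

open PrimeSpectrum TensorProduct

namespace K168.CoreTop

/-- Two disjoint pro-constructible pieces in a connected set with connected local traces. -/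
theorem subsingleton_or {N R₁ R₂ : Type u} [CommRing N] [CommRing R₁] [CommRing R₂] (φ₁ : N →+* R₁)
    (φ₂ : N →+* R₂) (T U₁ U₂ : Set (PrimeSpectrum N)) (hT : IsPreconnected T)
    (h₁ : Set.range (comap φ₁) ⊆ T) (h₂ : Set.range (comap φ₂) ⊆ T)
    (hU₁ : IsOpen U₁) (hU₂ : IsOpen U₂) (hr₁ : Set.range (comap φ₁) ⊆ U₁) (hr₂ : Set.range (comap φ₂) ⊆ U₂)
    (hU : Disjoint ((Set.range (comap φ₁) ∪ Set.range (comap φ₂)) ∩ U₁) U₂)
    (hne : ∀ z ∈ T, ∃ x ∈ Set.range (comap φ₁) ∪ Set.range (comap φ₂), x ≤ z)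
    (hc : ∀ z ∈ T, IsPreconnected {x | x ∈ Set.range (comap φ₁) ∪ Set.range (comap φ₂) ∧ x ≤ z}) :
    Subsingleton R₁ ∨ Subsingleton R₂ := by
  by_contra hcon
  rw [not_or] at hcon
  have n1 : Nontrivial R₁ := not_subsingleton_iff_nontrivial.1 hcon.1
  have n2 : Nontrivial R₂ := not_subsingleton_iff_nontrivial.1 hcon.2
  have key : ∀ {R : Type u} [CommRing R] (φ : N →+* R), ∀ z ∈ zeroLocus (RingHom.ker φ : Set N),
      ∃ x ∈ Set.range (comap φ), x ≤ z := by
    intro R _ φ z hz
    obtain ⟨p, hp, hpz⟩ := Ideal.exists_minimalPrimes_le (I := RingHom.ker φ) (J := z.asIdeal) hz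
    obtain ⟨q, hq, hqp⟩ := Ideal.exists_comap_eq_of_mem_minimalPrimes (f := φ) (I := ⊥) p
      (by rwa [← RingHom.ker_eq_comap_bot])
    exact ⟨comap φ ⟨q, hq⟩, ⟨_, rfl⟩, by
      rw [← PrimeSpectrum.asIdeal_le_asIdeal]
      change Ideal.comap φ q ≤ _
      rw [hqp.2]
      exact hpz⟩
  have hsub : ∀ {R : Type u} [CommRing R] (φ : N →+* R), Set.range (comap φ) ⊆ zeroLocus (RingHom.ker φ : Set N) := by
    rintro R _ φ _ ⟨x, rfl⟩ a ha
    change φ a ∈ x.asIdeal
    rw [(RingHom.mem_ker).1 ha]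
    exact zero_mem _
  obtain ⟨z, hz, hz1, hz2⟩ := (isPreconnected_closed_iff.1 hT) (zeroLocus (RingHom.ker φ₁ : Set N))
    (zeroLocus (RingHom.ker φ₂ : Set N)) (isClosed_zeroLocus _) (isClosed_zeroLocus _) (by
      intro z hz
      obtain ⟨x, hx | hx, hxz⟩ := hne z hz
      · left
        intro a ha
        exact hxz (hsub φ₁ hx ha)
      · right
        intro a ha
        exact hxz (hsub φ₂ hx ha))
    ⟨comap φ₁ (Nonempty.some inferInstance), h₁ ⟨_, rfl⟩, hsub φ₁ ⟨_, rfl⟩⟩
    ⟨comap φ₂ (Nonempty.some inferInstance), h₂ ⟨_, rfl⟩, hsub φ₂ ⟨_, rfl⟩⟩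
  obtain ⟨x₁, hx₁, hx₁z⟩ := key φ₁ z hz1
  obtain ⟨x₂, hx₂, hx₂z⟩ := key φ₂ z hz2
  obtain ⟨w, ⟨hw1, -⟩, hw2, hw3⟩ := hc z hz U₁ U₂ hU₁ hU₂ (by
    rintro x ⟨hx | hx, -⟩
    · exact Or.inl (hr₁ hx)
    · exact Or.inr (hr₂ hx)) ⟨x₁, ⟨Or.inl hx₁, hx₁z⟩, hr₁ hx₁⟩ ⟨x₂, ⟨Or.inr hx₂, hx₂z⟩, hr₂ hx₂⟩
  exact Set.disjoint_left.1 hU ⟨hw1, hw2⟩ hw3

/-- Connectedness of a pro-constructible piece from local connectedness. -/
theorem idempotent_eq {N A : Type u} [CommRing N] [CommRing A] (φ : N →+* A)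
    (hφ : Topology.IsInducing (comap φ)) (T : Set (PrimeSpectrum N)) (hT : IsPreconnected T)
    (h : Set.range (comap φ) ⊆ T) (hne : ∀ z ∈ T, ∃ x ∈ Set.range (comap φ), x ≤ z)
    (hc : ∀ z ∈ T, IsPreconnected {x | x ∈ Set.range (comap φ) ∧ x ≤ z})
    (e : A) (he : IsIdempotentElem e) : e = 0 ∨ e = 1 := by
  let φ₁ : N →+* A ⧸ Ideal.span {e} := (Ideal.Quotient.mk _).comp φ
  let φ₂ : N →+* A ⧸ Ideal.span {1 - e} := (Ideal.Quotient.mk _).comp φ
  have r1 : Set.range (comap φ₁) = comap φ '' (basicOpen (1 - e) : Set (PrimeSpectrum A)) := by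
    rw [PrimeSpectrum.comap_comp, Set.range_comp, range_comap_of_surjective _ _ Ideal.Quotient.mk_surjective,
      Ideal.mk_ker]
    congr 1
    ext x
    simp only [mem_zeroLocus, SetLike.mem_coe, mem_basicOpen]
    rw [SetLike.coe_subset_coe, Ideal.span_singleton_le_iff_mem]
    constructor
    · intro h1 h2
      exact x.2.ne_top ((Ideal.eq_top_iff_one _).2 (by simpa using add_mem h1 h2))
    · intro h1
      have h2 : e * (1 - e) ∈ x.asIdeal := by
        rw [mul_sub, mul_one, he.eq, sub_self]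
        exact zero_mem _
      exact (x.2.mem_or_mem h2).resolve_right h1
  have r2 : Set.range (comap φ₂) = comap φ '' (basicOpen e : Set (PrimeSpectrum A)) := by
    rw [PrimeSpectrum.comap_comp, Set.range_comp, range_comap_of_surjective _ _ Ideal.Quotient.mk_surjective,
      Ideal.mk_ker]
    congr 1
    ext x
    simp only [mem_zeroLocus, SetLike.mem_coe, mem_basicOpen]
    rw [SetLike.coe_subset_coe, Ideal.span_singleton_le_iff_mem]
    constructor
    · intro h1 h2
      exact x.2.ne_top ((Ideal.eq_top_iff_one _).2 (by simpa using add_mem h1 h2))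
    · intro h1
      have h2 : e * (1 - e) ∈ x.asIdeal := by
        rw [mul_sub, mul_one, he.eq, sub_self]
        exact zero_mem _
      exact (x.2.mem_or_mem h2).resolve_left h1
  obtain ⟨U₁, hU₁, hU₁'⟩ := hφ.isOpen_iff.1 (basicOpen (1 - e) : TopologicalSpace.Opens (PrimeSpectrum A)).isOpen
  obtain ⟨U₂, hU₂, hU₂'⟩ := hφ.isOpen_iff.1 (basicOpen e : TopologicalSpace.Opens (PrimeSpectrum A)).isOpen
  have hun : Set.range (comap φ₁) ∪ Set.range (comap φ₂) = Set.range (comap φ) := by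
    rw [r1, r2, ← Set.image_union, ← Set.image_univ]
    congr 1
    ext x
    simp only [Set.mem_union, SetLike.mem_coe, mem_basicOpen, Set.mem_univ, iff_true]
    by_contra hcon
    rw [not_or, not_not, not_not] at hcon
    exact x.2.ne_top ((Ideal.eq_top_iff_one _).2 (by simpa using add_mem hcon.1 hcon.2))
  have hmain := subsingleton_or φ₁ φ₂ T U₁ U₂ hT (fun x hx => h (hun ▸ Or.inl hx)) (fun x hx => h (hun ▸ Or.inr hx))
    hU₁ hU₂ (by
      rw [r1]
      rintro _ ⟨x, hx, rfl⟩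
      rw [← hU₁'] at hx
      exact hx) (by
      rw [r2]
      rintro _ ⟨x, hx, rfl⟩
      rw [← hU₂'] at hx
      exact hx) (by
      rw [hun, Set.disjoint_left]
      rintro _ ⟨⟨x, rfl⟩, hx1⟩ hx2
      have h1 : x ∈ comap φ ⁻¹' U₁ := hx1
      have h2 : x ∈ comap φ ⁻¹' U₂ := hx2
      rw [hU₁'] at h1
      rw [hU₂'] at h2
      simp only [SetLike.mem_coe, mem_basicOpen] at h1 h2
      have h3 : e * (1 - e) ∈ x.asIdeal := by
        rw [mul_sub, mul_one, he.eq, sub_self]
        exact zero_mem _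
      rcases x.2.mem_or_mem h3 with h4 | h4
      · exact h2 h4
      · exact h1 h4) (by rw [hun]; exact hne) (by rw [hun]; exact hc)
  rcases hmain with h1 | h1
  · right
    have h2 := (Ideal.Quotient.subsingleton_iff).1 h1
    rw [Ideal.span_singleton_eq_top] at h2
    exact (IsIdempotentElem.iff_eq_one_of_isUnit h2).1 he
  · left
    have h2 := (Ideal.Quotient.subsingleton_iff).1 h1
    rw [Ideal.span_singleton_eq_top] at h2
    have h3 := (IsIdempotentElem.iff_eq_one_of_isUnit h2).1 he.one_sub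
    exact sub_eq_self.1 h3

/-- The kernel of a section of an étale algebra is generated by an idempotent. -/
theorem exists_idempotent_ker {R A : Type u} [CommRing R] [CommRing A] [Algebra R A] [Algebra.Etale R A]
    (σ : A →ₐ[R] R) : ∃ e : A, IsIdempotentElem e ∧ RingHom.ker σ = Ideal.span {e} := by
  algebraize [σ.toRingHom]
  have : IsScalarTower R A R := IsScalarTower.of_algebraMap_eq' σ.comp_algebraMap.symm
  have h1 : Algebra.FormallyEtale A R := Algebra.FormallyEtale.of_restrictScalars (R := R)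
  have hs : Function.Surjective (algebraMap A R) := fun r => ⟨algebraMap R A r, σ.commutes r⟩
  have h2 := (Algebra.FormallyEtale.iff_of_surjective hs).1 h1
  have h3 : (RingHom.ker (algebraMap A R)).FG :=
    Algebra.FinitePresentation.ker_fG_of_surjective σ hs
  obtain ⟨e, he, hk⟩ := (Ideal.isIdempotentElem_iff_of_fg _ h3).1 h2
  exact ⟨e, he, hk⟩

/-- A finite étale algebra over a domain which has, over a non-empty closed subset of the base, connected spectrum
and a section, is trivial. -/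
theorem bijective_of_section {R A : Type u} [CommRing R] [IsDomain R] [CommRing A] [Algebra R A]
    [Algebra.Etale R A] [Module.Finite R A] (I : Ideal R) (hI : I ≠ ⊤) (σ : A →ₐ[R] R ⧸ I)
    (hconn : ∀ e : (R ⧸ I) ⊗[R] A, IsIdempotentElem e → e = 0 ∨ e = 1) :
    Function.Bijective (algebraMap R A) := by
  have hnt : Nontrivial (R ⧸ I) := Ideal.Quotient.nontrivial_iff.2 hI
  let σ₀ : (R ⧸ I) ⊗[R] A →ₐ[R ⧸ I] R ⧸ I := Algebra.TensorProduct.lift (AlgHom.id _ _) σ (fun _ _ => Commute.all _ _)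
  obtain ⟨e, he, hk⟩ := exists_idempotent_ker σ₀
  have hk0 : RingHom.ker σ₀ = ⊥ := by
    rcases hconn e he with h | h
    · rw [hk, h, Ideal.span_singleton_eq_bot]
    · exfalso
      have h1 : σ₀ 1 = 0 := by
        rw [← RingHom.mem_ker, hk, h]
        exact Ideal.mem_span_singleton_self _
      rw [map_one] at h1
      exact one_ne_zero h1
  have hbij : Function.Bijective (algebraMap (R ⧸ I) ((R ⧸ I) ⊗[R] A)) := by
    constructor
    · exact Function.LeftInverse.injective (g := σ₀) fun r => σ₀.commutes r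
    · intro a
      refine ⟨σ₀ a, ?_⟩
      have h1 : algebraMap (R ⧸ I) ((R ⧸ I) ⊗[R] A) (σ₀ a) - a ∈ RingHom.ker σ₀ := by
        rw [RingHom.mem_ker, map_sub, σ₀.commutes]
        exact sub_self _
      rw [hk0, Ideal.mem_bot] at h1
      exact sub_eq_zero.1 h1
  have hfl : Module.Flat R A := inferInstance
  have hr := Module.algebraMap_bijective_iff_rankAtStalk.2 hbij
  rw [← Module.algebraMap_bijective_iff_rankAtStalk]
  funext p
  obtain ⟨m⟩ := (inferInstance : Nonempty (PrimeSpectrum (R ⧸ I)))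
  have h2 := Module.rankAtStalk_baseChange (R := R) (M := A) m
  rw [hr, Pi.one_apply] at h2
  rw [Pi.one_apply, h2, ← Module.rankAtStalk_eq_of_le_of_finite_of_flat A (bot_le (a := p)),
    ← Module.rankAtStalk_eq_of_le_of_finite_of_flat A (bot_le (a := m.comap _))]

end K168.CoreTop
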