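import Groth.Agent.Etbc.H192.Glue
import Groth.Agent.EtAcyc.K168.CoreTop

/-!
# Strict localizations of the integral closure in an étale cover which is locally split
-/

set_option autoImplicit false
universe u

open TensorProduct PrimeSpectrum IsLocalRing CategoryTheory AlgebraicGeometry

namespace K168.CoreLoc

open Groth.Agent.Etrest.StrictLoc Groth.Agent.Sga1.UlaSL Groth.Agent.Etbc.H192

/-- The section of a base change attached to a point. -/
noncomputable def sec {R A E : Type u} [CommRing R] [CommRing A] [CommRing E] [Algebra R A] [Algebra R E]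
    (l : A →ₐ[R] E) : E ⊗[R] A →ₐ[E] E :=
  Algebra.TensorProduct.lift (AlgHom.id E E) l (fun _ _ => Commute.all _ _)

theorem sec_tmul {R A E : Type u} [CommRing R] [CommRing A] [CommRing E] [Algebra R A] [Algebra R E]
    (l : A →ₐ[R] E) (x : E) (a : A) : sec l (x ⊗ₜ a) = x * l a :=
  Algebra.TensorProduct.lift_tmul _ _ _ _ _

/-- A local ring of a finite intersection. -/
theorem exists_le_of_iInf {N : Type u} [CommRing N] {ι : Type*} [Finite ι] (J : ι → Ideal N) (w : Ideal N)
    [hw : w.IsPrime] (h : ⨅ i, J i ≤ w) : ∃ i, J i ≤ w := by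
  have := Fintype.ofFinite ι
  have h1 : Finset.univ.inf J ≤ w := by
    rwa [Finset.inf_univ_eq_iInf]
  obtain ⟨i, -, hi⟩ := (Ideal.IsPrime.inf_le' hw).1 h1
  exact ⟨i, hi⟩

theorem exists_prime_tensor {R A B : Type u} [CommRing R] [CommRing A] [CommRing B] [Algebra R A] [Algebra R B]
    (q : PrimeSpectrum A) (t : PrimeSpectrum B)
    (h : q.comap (algebraMap R A) = t.comap (algebraMap R B)) :
    ∃ r : PrimeSpectrum (A ⊗[R] B), r.comap Algebra.TensorProduct.includeLeftRingHom = q ∧
      r.comap (Algebra.TensorProduct.includeRight (R := R) (A := A) (B := B)).toRingHom = t := by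
  obtain ⟨z, hz1, hz2⟩ := Scheme.Pullback.exists_preimage_pullback
    (f := Spec.map (CommRingCat.ofHom (algebraMap R A))) (g := Spec.map (CommRingCat.ofHom (algebraMap R B)))
    q t (by exact h)
  refine ⟨(pullbackSpecIso R A B).hom z, ?_, ?_⟩
  · have : (Spec.map (CommRingCat.ofHom (Algebra.TensorProduct.includeLeftRingHom (R := R) (A := A) (B := B))))
      ((pullbackSpecIso R A B).hom z) = q := by
      rw [← hz1, ← pullbackSpecIso_inv_fst, ← Scheme.Hom.comp_apply]
      simp
    exact this
  · have : (Spec.map (CommRingCat.ofHom (RingHomClass.toRingHom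
        (Algebra.TensorProduct.includeRight (R := R) (A := A) (B := B)))))
      ((pullbackSpecIso R A B).hom z) = t := by
      rw [← hz2, ← pullbackSpecIso_inv_snd, ← Scheme.Hom.comp_apply]
      simp
    exact this

/-- A surjection with kernel generated by an idempotent is weakly étale. -/
theorem weaklyEtale_of_idempotent {D B : Type u} [CommRing D] [CommRing B] (ψ : D →+* B)
    (hs : Function.Surjective ψ) (e : D) (he : IsIdempotentElem e) (hk : RingHom.ker ψ = Ideal.span {e}) :
    WeaklyEtale (spm ψ) := by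
  let _ : Algebra D B := ψ.toAlgebra
  have h1 : IsLocalization.Away (1 - e) B :=
    IsLocalization.away_of_isIdempotentElem he.one_sub (by
      change RingHom.ker ψ = _
      rw [hk, sub_sub_cancel]) hs
  have h2 : Algebra.Etale D B := Algebra.Etale.of_isLocalizationAway (1 - e)
  have h3 : Etale (spm ψ) := by
    rw [HasRingHomProperty.Spec_iff (P := @Etale)]
    exact RingHom.etale_algebraMap.2 h2
  infer_instance

variable {B L A B' E : Type u} [CommRing B] [CommRing L] [CommRing A] [CommRing B'] [CommRing E]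
  [Algebra B L] [Algebra L A] [Algebra B A] [IsScalarTower B L A] [Algebra B B'] [Algebra B' E] [Algebra L E]
  [Algebra B E] [IsScalarTower B B' E] [IsScalarTower B L E]

theorem exists_loc [IsLocalRing B'] [Algebra.IsPushout B B' L E]
    (hsl : IsStrictLoc (spm (algebraMap B B')))
    (hic : ∀ x : E, IsIntegral B' x → ∃ b, algebraMap B' E b = x)
    (hinjE : Function.Injective (algebraMap B' E))
    [Algebra.Etale L A] {ι : Type*} [Finite ι] (l : ι → A →ₐ[L] E)
    (hl : ∀ x : E ⊗[L] A, (∀ i, sec (l i) x = 0) → x = 0)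
    (z : PrimeSpectrum (integralClosure B A))
    (hz : comap (algebraMap B (integralClosure B A)) z = comap (algebraMap B B') (closedPoint B')) :
    ∃ (τ : integralClosure B A →+* B') (i : ι), (∀ b, τ (algebraMap B _ b) = algebraMap B B' b) ∧
      (∀ a : integralClosure B A, algebraMap B' E (τ a) = l i a) ∧
      comap τ (closedPoint B') = z ∧ IsStrictLoc (spm τ) := by
  let N := integralClosure B A
  have hbij : Function.Bijective (TensorProduct.toIntegralClosure B B' A) := Glue.icbc_of_isStrictLoc hsl A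
  let Φ : E ⊗[L] A ≃ₐ[B'] B' ⊗[B] A := Algebra.IsPushout.cancelBaseChangeAlg B B' L E A
  let inc0 : B' ⊗[B] N →ₐ[B'] B' ⊗[B] A := Algebra.TensorProduct.map (AlgHom.id B' B') (integralClosure B A).val
  let inc : B' ⊗[B] N →ₐ[B'] E ⊗[L] A := (Φ.symm : B' ⊗[B] A →ₐ[B'] E ⊗[L] A).comp inc0
  have hinc0 : ∀ n, inc0 n = (TensorProduct.toIntegralClosure B B' A n : B' ⊗[B] A) := fun n => rfl
  have hinc : ∀ (b : B') (n : N), inc (b ⊗ₜ n) = algebraMap B' E b ⊗ₜ (n : A) := by
    intro b n
    change Φ.symm (b ⊗ₜ (n : A)) = _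
    exact Algebra.IsPushout.cancelBaseChangeAlg_symm_tmul ..
  have hincinj : Function.Injective inc := by
    refine Φ.symm.injective.comp ?_
    intro a b hab
    apply hbij.1
    apply Subtype.ext
    rw [← hinc0, ← hinc0]
    exact hab
  have hincsurj : ∀ x : E ⊗[L] A, IsIntegral B' x → ∃ n, inc n = x := by
    intro x hx
    obtain ⟨n, hn⟩ := hbij.2 ⟨Φ x, hx.map Φ⟩
    refine ⟨n, ?_⟩
    change Φ.symm (inc0 n) = x
    rw [hinc0, hn]
    exact Φ.symm_apply_apply x
  have hint : ∀ n : B' ⊗[B] N, IsIntegral B' n := Algebra.IsIntegral.isIntegral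
  let f : ι → B' ⊗[B] N →ₐ[B'] E := fun i => ((sec (l i)).restrictScalars B').comp inc
  let eB : B' ≃ₐ[B'] (Algebra.ofId B' E).range := AlgEquiv.ofInjective (Algebra.ofId B' E) hinjE
  have hf : ∀ i n, f i n ∈ (Algebra.ofId B' E).range := by
    intro i n
    obtain ⟨b, hb⟩ := hic _ ((hint n).map (f i))
    exact ⟨b, hb⟩
  let ψ : ι → B' ⊗[B] N →ₐ[B'] B' := fun i => (eB.symm : _ →ₐ[B'] B').comp ((f i).codRestrict _ (hf i))
  have hψ : ∀ i n, algebraMap B' E (ψ i n) = f i n := by
    intro i n
    have h1 : eB (ψ i n) = ⟨f i n, hf i n⟩ := eB.apply_symm_apply _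
    exact congrArg Subtype.val h1
  -- the point of the base change
  obtain ⟨w, hw1, hw2⟩ : ∃ w : PrimeSpectrum (B' ⊗[B] N),
      comap (algebraMap B' (B' ⊗[B] N)) w = closedPoint B' ∧
      comap (Algebra.TensorProduct.includeRight : N →ₐ[B] B' ⊗[B] N).toRingHom w = z :=
    exists_prime_tensor (closedPoint B') z hz.symm
  obtain ⟨i, hi⟩ := exists_le_of_iInf (fun i => RingHom.ker (ψ i)) w.asIdeal (by
    intro n hn
    have h0 : n = 0 := by
      apply hincinj
      rw [map_zero]
      apply hl
      intro i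
      have h1 : ψ i n = 0 := by
        have := (Ideal.mem_iInf.1 hn) i
        exact this
      have h2 := hψ i n
      rw [h1, map_zero] at h2
      exact h2.symm
    rw [h0]
    exact zero_mem _)
  have hψs : Function.Surjective (ψ i) := fun b => ⟨algebraMap B' _ b, (ψ i).commutes b⟩
  have hw : comap (ψ i).toRingHom (closedPoint B') = w := by
    apply PrimeSpectrum.ext
    ext n
    change ψ i n ∈ maximalIdeal B' ↔ n ∈ w.asIdeal
    have h1 : ∀ b : B', b ∈ maximalIdeal B' ↔ algebraMap B' (B' ⊗[B] N) b ∈ w.asIdeal := by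
      intro b
      have := congrArg (fun q => b ∈ PrimeSpectrum.asIdeal q) hw1
      exact (iff_of_eq this).symm
    rw [h1]
    have h2 : n - algebraMap B' (B' ⊗[B] N) (ψ i n) ∈ w.asIdeal := by
      apply hi
      change ψ i _ = 0
      rw [map_sub, (ψ i).commutes]
      exact sub_self _
    constructor
    · intro h3
      have := add_mem h2 h3
      rwa [sub_add_cancel] at this
    · intro h3
      have := sub_mem h3 h2
      rwa [sub_sub_cancel] at this
  -- the kernel
  obtain ⟨e, he, hke⟩ := CoreTop.exists_idempotent_ker (sec (l i))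
  obtain ⟨e', he'⟩ := hincsurj e ⟨Polynomial.X ^ 2 - Polynomial.X,
    Polynomial.monic_X_pow_sub (n := 2) (lt_of_le_of_lt Polynomial.degree_X_le (by norm_num)), by
      simp [pow_two, he.eq]⟩
  have he'id : IsIdempotentElem e' := by
    apply hincinj
    rw [map_mul, he']
    exact he
  have hker : RingHom.ker (ψ i) = Ideal.span {e'} := by
    ext n
    rw [RingHom.mem_ker, Ideal.mem_span_singleton]
    constructor
    · intro h1
      have h2 : sec (l i) (inc n) = 0 := by
        have := hψ i n
        rw [h1, map_zero] at this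
        exact this.symm
      have h3 : inc n ∈ Ideal.span {e} := hke ▸ h2
      obtain ⟨c, hc⟩ := Ideal.mem_span_singleton.1 h3
      refine ⟨n, hincinj ?_⟩
      rw [map_mul, he', hc, ← mul_assoc, he.eq]
    · rintro ⟨c, rfl⟩
      apply hinjE
      rw [hψ, map_zero]
      change sec (l i) (inc (e' * c)) = 0
      rw [map_mul, he', map_mul]
      have h4 : sec (l i) e = 0 := by
        have h5 : e ∈ RingHom.ker (sec (l i)) := hke ▸ Ideal.mem_span_singleton_self e
        exact h5
      rw [h4, zero_mul]
  let τ : N →+* B' := (ψ i).toRingHom.comp (Algebra.TensorProduct.includeRight : N →ₐ[B] B' ⊗[B] N).toRingHom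
  have hτ1 : ∀ b, τ (algebraMap B N b) = algebraMap B B' b := by
    intro b
    change ψ i (1 ⊗ₜ algebraMap B N b) = _
    have h1 : (1 : B') ⊗ₜ[B] algebraMap B N b = algebraMap B' (B' ⊗[B] N) (algebraMap B B' b) :=
      ((Algebra.TensorProduct.includeRight : N →ₐ[B] B' ⊗[B] N).commutes b).trans
        (IsScalarTower.algebraMap_apply B B' (B' ⊗[B] N) b)
    rw [h1, (ψ i).commutes]
    rfl
  refine ⟨τ, i, hτ1, ?_, ?_, ?_⟩
  · intro a
    have h1 := hψ i (1 ⊗ₜ a)
    have h2 : f i (1 ⊗ₜ a) = sec (l i) (inc (1 ⊗ₜ a)) := rfl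
    rw [h2, hinc, sec_tmul, map_one, one_mul] at h1
    exact h1
  · rw [← hw2, ← hw]
    rfl
  · have h1 : WeaklyEtale (spm (ψ i).toRingHom) := weaklyEtale_of_idempotent _ hψs e' he'id hker
    have h2 : WeaklyEtale (spm (Algebra.TensorProduct.includeRight : N →ₐ[B] B' ⊗[B] N).toRingHom) := by
      have h3 := weaklyEtale_of_isStrictLoc hsl
      have h4 := (isPullback_SpecMap_of_isPushout _ _ _ _ (CommRingCat.isPushout_tensorProduct B B' N))
      exact MorphismProperty.of_isPullback h4 h3
    have := hsl.henselian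
    have := hsl.sepClosed
    have h5 := ((isStrictLoc_id B').comp (spm (ψ i).toRingHom)).comp
      (spm (Algebra.TensorProduct.includeRight : N →ₐ[B] B' ⊗[B] N).toRingHom)
    rw [Category.id_comp, ← spm_comp] at h5
    exact h5

end K168.CoreLoc
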