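import Groth.Agent.EtAcyc.K168.AsphDef
import Groth.Agent.EtAcyc.K168.CoreLoc
import Groth.Agent.Pi1.H408.PrincRestrict

/-!
# Principal covers of affine schemes and algebras
-/

set_option autoImplicit false
set_option backward.isDefEq.respectTransparency.types false
universe u

open TensorProduct PrimeSpectrum IsLocalRing CategoryTheory CategoryTheory.Limits AlgebraicGeometry

namespace K168.FEtAlg

open Groth.Agent.Etrest.StrictLoc AsphDef CoreLoc

theorem exists_lift_of_nc {n : ℕ} {Y Y' : Scheme.{u}} (h : NC n Y') (g : Y' ⟶ Y) (G : Type) [Group G] [Finite G]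
    (hG : Nat.card G ∣ n) (P : FEt.Cat Y) (ρ : G →* Aut P) (hP : SGA1t.IsPrincipal G P ρ) :
    ∃ l : Y' ⟶ P.left, l ≫ P.hom = g := by
  obtain ⟨s, hs⟩ := h G hG _ _ (Groth.Agent.Pi1.H408.PrincRestrict.isPrincipal_restrict g P ρ hP)
  let s' : Y' ⟶ pullback P.hom g := s
  have h1 : s' ≫ pullback.snd P.hom g = 𝟙 Y' := hs
  refine ⟨s' ≫ pullback.fst P.hom g, ?_⟩
  rw [Category.assoc, pullback.condition, ← Category.assoc, h1, Category.id_comp]

theorem nc_of_iso {n : ℕ} {Y Y' : Scheme.{u}} (e : Y ≅ Y') (h : NC n Y') : NC n Y := by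
  intro G _ _ hG P ρ hP
  obtain ⟨l, hl⟩ := exists_lift_of_nc h e.inv G hG P ρ hP
  exact ⟨⟨e.hom ≫ l, by
    have h1 : (e.hom ≫ l) ≫ P.hom = 𝟙 Y := by rw [Category.assoc, hl, e.hom_inv_id]
    exact h1⟩⟩

/-- The algebra of a principal cover. -/
theorem exists_algebra {L : Type u} [CommRing L] {G : Type} [Group G] (P : FEt.Cat (Spec (CommRingCat.of L)))
    (ρ : G →* Aut P) (hP : SGA1t.IsPrincipal G P ρ) :
    ∃ (A : Type u) (_ : CommRing A) (_ : Algebra L A) (_ : Module.Finite L A) (_ : Algebra.Etale L A)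
      (r : G → A →ₐ[L] A),
      (∀ (Ω : Type u) [Field Ω] [IsAlgClosed Ω] (a b : A →+* Ω),
        a.comp (algebraMap L A) = b.comp (algebraMap L A) → ∃ g, b = a.comp (r g).toRingHom) ∧
      (∀ (E : Type u) [CommRing E] (φ : L →+* E), (∃ l : Spec (CommRingCat.of E) ⟶ P.left, l ≫ P.hom = spm φ) ↔
        ∃ a : A →+* E, a.comp (algebraMap L A) = φ) := by
  have hF : IsFinite P.hom := P.prop.1
  have hE : Etale P.hom := P.prop.2
  have haff : IsAffine P.left :=
    @isAffine_of_isAffineHom _ _ P.hom _ (inferInstanceAs (IsAffine (Spec (CommRingCat.of L))))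
  let A : Type u := Γ(P.left, ⊤)
  let e : P.left ≅ Spec (CommRingCat.of A) := P.left.isoSpec
  obtain ⟨φ, hφ⟩ : ∃ φ : L →+* A, spm φ = e.inv ≫ P.hom :=
    ⟨(Spec.preimage (e.inv ≫ P.hom)).hom, Spec.map_preimage _⟩
  let _ : Algebra L A := φ.toAlgebra
  have hφ' : spm (algebraMap L A) = e.inv ≫ P.hom := hφ
  have hfin : Module.Finite L A := by
    have h1 : IsFinite (spm (algebraMap L A)) := by
      rw [hφ']
      infer_instance
    exact (IsFinite.SpecMap_iff _).1 h1
  have het : Algebra.Etale L A := by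
    have h1 : Etale (spm (algebraMap L A)) := by
      rw [hφ']
      infer_instance
    have h2 := (HasRingHomProperty.Spec_iff (P := @Etale)).1 h1
    exact RingHom.etale_algebraMap.1 h2
  have hr : ∀ g : G, ∃ r : A →ₐ[L] A, spm r.toRingHom = e.inv ≫ (ρ g).hom.left ≫ e.hom := by
    intro g
    let r0 := (Spec.preimage (e.inv ≫ (ρ g).hom.left ≫ e.hom)).hom
    have hr0 : spm r0 = e.inv ≫ (ρ g).hom.left ≫ e.hom := Spec.map_preimage _
    have hw : (ρ g).hom.left ≫ P.hom = P.hom := Over.w (ρ g).hom.hom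
    refine ⟨{ r0 with commutes' := ?_ }, ?_⟩
    · intro l
      have h1 : r0.comp (algebraMap L A) = algebraMap L A := by
        rw [← spm_inj, spm_comp, hr0, hφ']
        simp only [Category.assoc, Iso.hom_inv_id_assoc, hw]
      exact congrArg (fun k => k l) h1
    · exact hr0
  choose r hr using hr
  refine ⟨A, inferInstance, inferInstance, hfin, het, r, ?_, ?_⟩
  · intro Ω _ _ a b hab
    have hs : (spm a ≫ e.inv) ≫ P.hom = spm (a.comp (algebraMap L A)) := by
      rw [spm_comp, hφ', Category.assoc]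
    have ht : (spm b ≫ e.inv) ≫ P.hom = spm (a.comp (algebraMap L A)) := by
      rw [hab, spm_comp, hφ', Category.assoc]
    obtain ⟨g, hg, -⟩ := hP.2 Ω (spm (a.comp (algebraMap L A))) ⟨spm a ≫ e.inv, hs⟩ ⟨spm b ≫ e.inv, ht⟩
    have hg' : (spm a ≫ e.inv) ≫ (ρ g).hom.left = spm b ≫ e.inv := congrArg Subtype.val hg
    refine ⟨g, ?_⟩
    rw [← spm_inj, spm_comp, hr, ← cancel_mono e.inv, ← hg']
    simp only [Category.assoc, Iso.hom_inv_id, Category.comp_id]
  · intro E _ φ'
    constructor
    · rintro ⟨l, hl⟩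
      let a := (Spec.preimage (l ≫ e.hom)).hom
      have ha : spm a = l ≫ e.hom := Spec.map_preimage _
      refine ⟨a, ?_⟩
      rw [← spm_inj, spm_comp, ha, hφ', Category.assoc, Iso.hom_inv_id_assoc, hl]
    · rintro ⟨a, ha⟩
      refine ⟨spm a ≫ e.inv, ?_⟩
      rw [← ha, spm_comp, hφ', Category.assoc]

theorem isReduced_of_etale_domain (R S : Type u) [CommRing R] [IsDomain R] [CommRing S] [Algebra R S]
    [Algebra.Etale R S] : _root_.IsReduced S := by
  have h1 : _root_.IsReduced (FractionRing R ⊗[R] S) :=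
    Algebra.FormallyUnramified.isReduced_of_field (FractionRing R) (FractionRing R ⊗[R] S)
  have hinj : Function.Injective (Algebra.TensorProduct.includeRight : S →ₐ[R] FractionRing R ⊗[R] S) :=
    Algebra.TensorProduct.includeRight_injective (IsFractionRing.injective R (FractionRing R))
  exact isReduced_of_injective (Algebra.TensorProduct.includeRight : S →ₐ[R] FractionRing R ⊗[R] S) hinj

/-- The translates of a section of a principal cover over a domain separate functions. -/
theorem eq_zero_of_family {L A E : Type u} [CommRing L] [CommRing A] [Algebra L A] [Algebra.Etale L A] [CommRing E]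
    [IsDomain E] [Algebra L E] {G : Type} (r : G → A →ₐ[L] A)
    (hr : ∀ (Ω : Type u) [Field Ω] [IsAlgClosed Ω] (a b : A →+* Ω),
      a.comp (algebraMap L A) = b.comp (algebraMap L A) → ∃ g, b = a.comp (r g).toRingHom)
    (l : A →ₐ[L] E) (x : E ⊗[L] A) (hx : ∀ g, sec (l.comp (r g)) x = 0) : x = 0 := by
  have hred : _root_.IsReduced (E ⊗[L] A) := isReduced_of_etale_domain E (E ⊗[L] A)
  have hnil : IsNilpotent x := by
    rw [← mem_nilradical, nilradical_eq_sInf, Submodule.mem_sInf]
    intro (p : Ideal (E ⊗[L] A)) hp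
    have hp' : p.IsPrime := hp
    let Ω := AlgebraicClosure p.ResidueField
    let π : E ⊗[L] A →+* Ω := (algebraMap p.ResidueField Ω).comp (algebraMap (E ⊗[L] A) p.ResidueField)
    let iE : E →+* E ⊗[L] A := algebraMap E (E ⊗[L] A)
    let iA : A →ₐ[L] E ⊗[L] A := Algebra.TensorProduct.includeRight
    obtain ⟨g, hg⟩ := hr Ω ((π.comp iE).comp l.toRingHom) (π.comp iA.toRingHom) (by
      ext c
      have h1 : l (algebraMap L A c) = algebraMap L E c := l.commutes c
      have h2 : iA (algebraMap L A c) = algebraMap L (E ⊗[L] A) c := iA.commutes c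
      have h3 : algebraMap E (E ⊗[L] A) (algebraMap L E c) = algebraMap L (E ⊗[L] A) c :=
        (IsScalarTower.algebraMap_apply L E (E ⊗[L] A) c).symm
      change π (algebraMap E (E ⊗[L] A) (l (algebraMap L A c))) = π (iA (algebraMap L A c))
      rw [h1, h2, h3])
    have hπ : ∀ y : E ⊗[L] A, π y = π (iE (sec (l.comp (r g)) y)) := by
      intro y
      induction y with
      | zero => simp
      | tmul e a =>
        rw [sec_tmul]
        have h1 : e ⊗ₜ[L] a = iE e * iA a := by
          change e ⊗ₜ[L] a = (e ⊗ₜ 1) * (1 ⊗ₜ a)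
          rw [Algebra.TensorProduct.tmul_mul_tmul, mul_one, one_mul]
        have h2 : π (iA a) = π (iE (l (r g a))) := congrArg (fun k => k a) hg
        rw [h1, map_mul, map_mul, map_mul, h2]
        rfl
      | add y z hy hz => rw [map_add, hy, hz, ← map_add, ← map_add, ← map_add]
    have h1 := hπ x
    rw [hx g, map_zero, map_zero] at h1
    have h2 : algebraMap (E ⊗[L] A) p.ResidueField x = 0 :=
      (map_eq_zero_iff _ (algebraMap p.ResidueField Ω).injective).1 h1
    exact Ideal.algebraMap_residueField_eq_zero.1 h2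
  exact hnil.eq_zero

end K168.FEtAlg
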