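import Groth.Agent.EtAcyc.K168.BadPoint
import Groth.Agent.EtAcyc.K155.Nice
import Groth.Agent.EtAcyc.K557.LimMain
import Groth.Agent.EtAcyc.K548.Smo
import Groth.Agent.EtAcyc.K286.FinStab
import Groth.Agent.EtAcyc.K548.Away
import Groth.Agent.EtAcyc.K548.CompT
import Groth.Agent.EtAcyc.K286.DescMain
import Groth.Agent.EtAcyc.K142.GenOut

/-!
# The induction on the relative dimension
-/

set_option autoImplicit false
universe u

open TensorProduct PrimeSpectrum IsLocalRing CategoryTheory CategoryTheory.Limits AlgebraicGeometry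

namespace K168.Induct

open Groth.Agent.Etrest.StrictLoc Groth.Agent.Sga1.UlaSL AsphDef ClaimDef NiceDef K548.Away K548.CompT

/-- Generic asphericity in bounded dimension. -/
def ClaimDim (m : ℕ) : Prop :=
  ∀ (D C : Type u) [CommRing D] [IsDomain D] [Algebra.FiniteType ℤ D] [CommRing C] [Algebra D C]
    [Algebra.FiniteType D C], ringKrullDim (FractionRing D ⊗[D] C) ≤ (m : WithBot ℕ∞) → GenAsph D C

theorem ClaimDim.mono {m m' : ℕ} (h : m ≤ m') (hm : ClaimDim.{u} m') : ClaimDim.{u} m := by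
  intro D C _ _ _ _ _ _ hd
  exact hm D C (hd.trans (by exact_mod_cast h))

theorem finiteType_int (D : Type u) [CommRing D] [h : Algebra.FiniteType ℤ D] (D' : Type u) [CommRing D']
    [Algebra D D'] [h' : Algebra.FiniteType D D'] : Algebra.FiniteType ℤ D' := by
  have h1 : (algebraMap D D').FiniteType := RingHom.finiteType_algebraMap.2 h'
  have h2 : (algebraMap ℤ D).FiniteType := RingHom.finiteType_algebraMap.2 h
  have h3 : ((algebraMap D D').comp (algebraMap ℤ D)).FiniteType := h1.comp h2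
  have h4 : algebraMap ℤ D' = (algebraMap D D').comp (algebraMap ℤ D) := Subsingleton.elim _ _
  exact RingHom.finiteType_algebraMap.1 (h4 ▸ h3)

theorem finiteType_away (D : Type u) [CommRing D] [Algebra.FiniteType ℤ D] (e : D) :
    @Algebra.FiniteType ℤ (Localization.Away e) _ _ (Ring.toIntAlgebra _) := by
  have h1 : Algebra.FiniteType D (Localization.Away e) :=
    IsLocalization.finiteType_of_monoid_fg (Submonoid.powers e) _
  exact finiteType_int D (Localization.Away e)

theorem isDomain_away (D : Type u) [CommRing D] [IsDomain D] (e : D) (he : e ≠ 0) :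
    IsDomain (Localization.Away e) :=
  IsLocalization.isDomain_of_le_nonZeroDivisors _ (powers_le_nonZeroDivisors_of_noZeroDivisors he)

section

variable {D C₁ C₂ : Type u} [CommRing D] [CommRing C₁] [Algebra D C₁] [CommRing C₂] [Algebra D C₂]

theorem isPullback_algEquiv (e : C₁ ≃ₐ[D] C₂) :
    IsPullback (spm e.toRingEquiv.toRingHom) (spm (algebraMap D C₂)) (spm (algebraMap D C₁))
      (𝟙 (Spec (CommRingCat.of D))) := by
  have h1 : IsIso (spm e.toRingEquiv.toRingHom) := isIso_spm _ e.bijective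
  refine IsPullback.of_horiz_isIso ⟨?_⟩
  rw [Category.comp_id, ← spm_comp, spm_inj]
  ext d
  exact e.commutes d

theorem asph_of_algEquiv (e : C₁ ≃ₐ[D] C₂) {n : ℕ} (h : Asph n (spm (algebraMap D C₁))) :
    Asph n (spm (algebraMap D C₂)) := fun _ =>
  K286.FinStab.asphAt_of_isPullback (isPullback_algEquiv e) (h _)

theorem isGood_of_algEquiv (e : C₁ ≃ₐ[D] C₂) (h : K548.Good.IsGood (spm (algebraMap D C₁))) :
    K548.Good.IsGood (spm (algebraMap D C₂)) := h.of_isPullback (isPullback_algEquiv e)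

end

section

variable {D C : Type u} [CommRing D] [IsDomain D] [Algebra.FiniteType ℤ D] [CommRing C] [Algebra D C]
  [Algebra.FiniteType D C]

omit [IsDomain D] [Algebra.FiniteType ℤ D] in
theorem notMem_comap_of_isUnit {D' : Type u} [CommRing D'] [Algebra D D'] {C' : Type u} [CommRing C']
    [Algebra D C'] (d : D) (hd : IsUnit (algebraMap D D' d)) (y : Spec (CommRingCat.of (D' ⊗[D] C'))) :
    algebraMap D C' d ∉
      (spm (Algebra.TensorProduct.includeRight : C' →ₐ[D] D' ⊗[D] C').toRingHom y).asIdeal := by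
  intro h
  have h1 : (Algebra.TensorProduct.includeRight : C' →ₐ[D] D' ⊗[D] C') (algebraMap D C' d) ∈ y.asIdeal := h
  rw [AlgHom.commutes, IsScalarTower.algebraMap_apply D D' (D' ⊗[D] C')] at h1
  exact y.isPrime.ne_top (Ideal.eq_top_of_isUnit_mem _ h1 (hd.map _))

omit [IsDomain D] [Algebra.FiniteType ℤ D] [Algebra.FiniteType D C] in
theorem map_span_tmul {D' : Type u} [CommRing D'] [Algebra D D'] {r : ℕ} (x : Fin r → C) :
    (Ideal.span (Set.range x)).map (Algebra.TensorProduct.includeRight : C →ₐ[D] D' ⊗[D] C) =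
      Ideal.span (Set.range fun i => (1 : D') ⊗ₜ[D] x i) := by
  rw [Ideal.map_span]
  congr 1
  ext z
  constructor
  · rintro ⟨_, ⟨i, rfl⟩, rfl⟩
    exact ⟨i, rfl⟩
  · rintro ⟨i, rfl⟩
    exact ⟨_, ⟨i, rfl⟩, rfl⟩

/-- The main step, with asphericity off the common zeros of the coordinates. -/
theorem genAsph_of_off {r : ℕ} (hr : 1 ≤ r) (ih : ClaimDim.{u} r) {x : Fin (r + 1) → C} (hP : Pre D C x)
    (h1 : ∀ y : Spec (CommRingCat.of C), (∃ j, x j ∉ y.asIdeal) → ∀ n, AsphAt n (spm (algebraMap D C)) y) :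
    GenAsph D C := by
  let 𝔞 := Ideal.span (Set.range fun i : Fin r => x i.castSucc)
  have hfin := K155.Nice.quot x hP.finite
  have hft : Algebra.FiniteType D (C ⧸ 𝔞) := inferInstance
  have hdim : ringKrullDim (FractionRing D ⊗[D] (C ⧸ 𝔞)) ≤ ((1 : ℕ) : WithBot ℕ∞) := K155.Nice.dim _ hfin
  obtain ⟨e1, he1, h2⟩ := ih D (C ⧸ 𝔞) (hdim.trans (by exact_mod_cast hr))
  obtain ⟨e2, he2, h3⟩ := exists_isGood (D := D) (C := C ⧸ 𝔞)
  have he : e1 * e2 ≠ 0 := mul_ne_zero he1 he2
  let D' := Localization.Away (e1 * e2)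
  have hD' : IsDomain D' := isDomain_away D _ he
  have hD'f : @Algebra.FiniteType ℤ D' _ _ (Ring.toIntAlgebra _) := finiteType_away D _
  have hunit : IsUnit (algebraMap D D' e1) := by
    have h4 : IsUnit (algebraMap D D' (e1 * e2)) := IsLocalization.Away.algebraMap_isUnit _
    rw [map_mul] at h4
    exact isUnit_of_mul_isUnit_left h4
  have hP' : Pre D' (D' ⊗[D] C) (fun i => (1 : D') ⊗ₜ[D] x i) := K155.Nice.baseChange hP D'
  have h2' : ∀ n, Asph n (spm (algebraMap D' (D' ⊗[D] (C ⧸ 𝔞)))) := fun n y =>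
    asphAt_away (e1 * e2) y (h2 _ (notMem_comap_of_isUnit e1 hunit y) n)
  have h3' : K548.Good.IsGood (spm (algebraMap D' (D' ⊗[D] (C ⧸ 𝔞)))) :=
    h3 (e1 * e2) (Dvd.intro_left _ rfl) he
  let 𝔟 := Ideal.span (Set.range fun i : Fin r => (1 : D') ⊗ₜ[D] x i.castSucc)
  have h𝔟 : 𝔞.map (Algebra.TensorProduct.includeRight : C →ₐ[D] D' ⊗[D] C) = 𝔟 := map_span_tmul _
  let eq1 : D' ⊗[D] (C ⧸ 𝔞) ≃ₐ[D'] (D' ⊗[D] C) ⧸ 𝔟 :=
    (Algebra.TensorProduct.tensorQuotientEquiv (R := D) D' C D' 𝔞).trans (Ideal.quotientEquivAlgOfEq D' h𝔟)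
  refine genAsph_of_away (e1 * e2) he ⟨1, one_ne_zero, fun y _ n => ?_⟩
  exact K557.LimMain.asphAt_of_lapAt_affine (BadPoint.lApAt hP' (fun y hy => asphAt_away (e1 * e2) y (h1 _ (by
    obtain ⟨j, hj⟩ := hy
    exact ⟨j, hj⟩) n)) (asph_of_algEquiv eq1 (h2' n)) (isGood_of_algEquiv eq1 h3') y)

/-- Making polynomials monic of positive degree. -/
theorem exists_monic {D' : Type u} [CommRing D'] [IsDomain D'] (p : Polynomial D')
    (hp : IsUnit p.leadingCoeff) : ∃ q : Polynomial D', q.Monic ∧ 0 < q.natDegree ∧ p ∣ q := by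
  obtain ⟨u, hu⟩ := hp
  have h1 : (Polynomial.C (↑u⁻¹ : D') * p).Monic := by
    rw [Polynomial.Monic, Polynomial.leadingCoeff_mul, Polynomial.leadingCoeff_C, ← hu, Units.inv_mul]
  refine ⟨Polynomial.X * (Polynomial.C (↑u⁻¹ : D') * p), Polynomial.monic_X.mul h1, ?_, ?_⟩
  · rw [Polynomial.monic_X.natDegree_mul h1, Polynomial.natDegree_X]
    omega
  · exact (Dvd.intro_left _ rfl : p ∣ Polynomial.C (↑u⁻¹ : D') * p).trans (Dvd.intro_left _ rfl)

/-- The main step. -/
theorem genAsph_of_pre {r : ℕ} (hr : 1 ≤ r) (ih : ClaimDim.{u} r) {x : Fin (r + 1) → C} (hP : Pre D C x) :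
    GenAsph D C := by
  have h1 : ∀ i, ∃ p : Polynomial D, p ≠ 0 ∧ ∀ y : Spec (CommRingCat.of C), Polynomial.aeval (x i) p ∉ y.asIdeal →
      ∀ n, AsphAt n (spm (algebraMap D C)) y := by
    intro i
    refine exists_comp (fun n {X Y} f _ => K548.Smo.asph_of_smooth n f) (x i) ?_
    let _ : Algebra (Polynomial D) C := (Polynomial.aeval (x i)).toRingHom.toAlgebra
    have hst : IsScalarTower D (Polynomial D) C := IsScalarTower.of_algebraMap_eq fun d =>
      ((Polynomial.aeval (x i)).commutes d).symm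
    have hft : Algebra.FiniteType (Polynomial D) C := Algebra.FiniteType.of_restrictScalars_finiteType D _ _
    have hft' : @Algebra.FiniteType ℤ (Polynomial D) _ _ (Ring.toIntAlgebra _) := finiteType_int D (Polynomial D)
    exact ih (Polynomial D) C (K155.Nice.dim_poly x hP.finite i)
  choose p hp0 hp using h1
  let a : D := ∏ i, (p i).leadingCoeff
  have ha : a ≠ 0 := Finset.prod_ne_zero_iff.2 fun i _ => Polynomial.leadingCoeff_ne_zero.2 (hp0 i)
  let D' := Localization.Away a
  have hD' : IsDomain D' := isDomain_away D _ ha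
  have hD'f : @Algebra.FiniteType ℤ D' _ _ (Ring.toIntAlgebra _) := finiteType_away D _
  have hunit : ∀ i, IsUnit (algebraMap D D' (p i).leadingCoeff) := by
    intro i
    have h4 : IsUnit (algebraMap D D' a) := IsLocalization.Away.algebraMap_isUnit _
    exact isUnit_of_dvd_unit (map_dvd _ (Finset.dvd_prod_of_mem (fun i => (p i).leadingCoeff)
      (Finset.mem_univ i))) h4
  have hinj : Function.Injective (algebraMap D D') :=
    IsLocalization.injective _ (powers_le_nonZeroDivisors_of_noZeroDivisors ha)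
  have hq : ∀ i, ∃ q : Polynomial D', q.Monic ∧ 0 < q.natDegree ∧ (p i).map (algebraMap D D') ∣ q := by
    intro i
    apply exists_monic
    rw [Polynomial.leadingCoeff_map_of_injective hinj]
    exact hunit i
  choose q hq1 hq2 hq3 using hq
  have hP' : Pre D' (D' ⊗[D] C) (fun i => (1 : D') ⊗ₜ[D] x i) := K155.Nice.baseChange hP D'
  have hP'' := K155.Nice.subst hP' q hq1 hq2
  refine genAsph_of_away a ha (genAsph_of_off hr ih hP'' ?_)
  rintro y ⟨j, hj⟩ n
  refine asphAt_away a y (hp j _ ?_ n)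
  intro h
  apply hj
  obtain ⟨c, hc⟩ := hq3 j
  rw [hc, map_mul]
  apply Ideal.mul_mem_right
  have h2 : Polynomial.aeval ((1 : D') ⊗ₜ[D] x j) ((p j).map (algebraMap D D')) =
      (Algebra.TensorProduct.includeRight : C →ₐ[D] D' ⊗[D] C) (Polynomial.aeval (x j) (p j)) := by
    rw [Polynomial.aeval_map_algebraMap, ← Polynomial.aeval_algHom_apply]
    rfl
  rw [h2]
  exact h

end

/-- Smooth and bijective families. -/
theorem genAsph_of_smooth {D C : Type u} [CommRing D] [IsDomain D] [CommRing C] [Algebra D C]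
    (h : Smooth (spm (algebraMap D C))) : GenAsph D C :=
  ⟨1, one_ne_zero, fun x _ n => K548.Smo.asph_of_smooth n _ x⟩

theorem smooth_spm {D C : Type u} [CommRing D] [CommRing C] [Algebra D C] [h : Algebra.Smooth D C] :
    Smooth (spm (algebraMap D C)) := by
  have h1 : (algebraMap D C).Smooth := RingHom.smooth_algebraMap.2 h
  exact (HasRingHomProperty.Spec_iff (P := @Smooth)).2 h1

theorem smooth_of_bijective {D C : Type u} [CommRing D] [CommRing C] [Algebra D C]
    (h : Function.Bijective (algebraMap D C)) : Smooth (spm (algebraMap D C)) := by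
  have h1 : IsIso (spm (algebraMap D C)) := isIso_spm _ h
  infer_instance

/-- One step of the induction. -/
theorem genAsph_of_gen {D C : Type u} [CommRing D] [IsDomain D] [Algebra.FiniteType ℤ D] [CommRing C]
    [Algebra D C] [Algebra.FiniteType D C] {N : ℕ} (hdim : ringKrullDim (FractionRing D ⊗[D] C) ≤ (N : WithBot ℕ∞))
    (ih : ∀ r, 1 ≤ r → r + 1 ≤ N → ClaimDim.{u} r) : GenAsph D C := by
  have hN : IsNoetherianRing D := Algebra.FiniteType.isNoetherianRing ℤ D
  apply K286.DescMain.genAsph_of_data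
  obtain ⟨d, hd, D₁, _, hD₁, _, hft, hinj, hu, hint, r, C₁, _, _, φ, hφ, hf, hs, hP⟩ := K142.Gen.exists_gen D C
  refine ⟨d, hd, D₁, inferInstance, hD₁, inferInstance, hft, hinj, hu, hint, r, C₁, inferInstance, inferInstance,
    φ, hφ, hf, hs, fun j => ?_⟩
  obtain ⟨m, x, hPre, hm, hm1, hm0⟩ := hP j
  have hmN : m ≤ N := by exact_mod_cast hm.trans hdim
  have hftj : Algebra.FiniteType D₁ (C₁ j) := K155.Nice.finiteType_of_finite hPre.finite
  have hft1 : Algebra.FiniteType ℤ D₁ := finiteType_int D D₁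
  rcases m with _ | _ | r'
  · exact genAsph_of_smooth (smooth_of_bijective (hm0 rfl))
  · have := hm1 rfl
    exact genAsph_of_smooth smooth_spm
  · exact genAsph_of_pre (Nat.succ_le_succ (Nat.zero_le _)) (ih (r' + 1) (by omega) hmN) hPre

theorem claimDim (N : ℕ) : ClaimDim.{u} N := by
  induction N using Nat.strong_induction_on with
  | _ N ih =>
    intro D C _ _ _ _ _ _ hdim
    exact genAsph_of_gen hdim fun r _ hr => ih r (by omega)

/-- **Generic universal local asphericity.** -/
theorem claim : Claim.{u} := by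
  intro D C _ _ _ _ _ _
  obtain ⟨N, hN⟩ : ∃ N : ℕ, ringKrullDim (FractionRing D ⊗[D] C) ≤ (N : WithBot ℕ∞) := by
    obtain ⟨N, f, hf⟩ := Algebra.FiniteType.iff_quotient_mvPolynomial''.1
      (inferInstance : Algebra.FiniteType (FractionRing D) (FractionRing D ⊗[D] C))
    exact ⟨N, (ringKrullDim_le_of_surjective f.toRingHom hf).trans
      (Groth.Agent.FlatA.DimFin.ringKrullDim_mvPolynomial_fin (FractionRing D) N).le⟩
  exact claimDim N D C hN

end K168.Induct
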