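import Groth.Agent.EtAcyc.K168.TPLoc
import Groth.Agent.EtAcyc.K168.FEtAlg
import Groth.Agent.EtAcyc.K168.SLTools
import Groth.Agent.EtAcyc.K548.Good

/-!
# Local asphericity for affine morphisms: ring form
-/

set_option autoImplicit false
universe u

open TensorProduct PrimeSpectrum IsLocalRing CategoryTheory CategoryTheory.Limits AlgebraicGeometry

namespace K168.RingForm

open Groth.Agent.Etrest.StrictLoc Groth.Agent.Sga1.UlaSL AsphDef Groth.Agent.Flat2E.AIC1

section

variable {D C O B : Type u} [CommRing D] [CommRing C] [Algebra D C] [CommRing O] [Algebra D O] [CommRing B]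

/-- The structure map from the base. -/
abbrev fromO (ε : O ⊗[D] C →+* B) : O →+* B := ε.comp (algebraMap O (O ⊗[D] C))

/-- The structure map from the second factor. -/
abbrev fromC (ε : O ⊗[D] C →+* B) : C →+* B :=
  ε.comp (Algebra.TensorProduct.includeRight : C →ₐ[D] O ⊗[D] C).toRingHom

theorem isPullback_tensor (D C O : Type u) [CommRing D] [CommRing C] [Algebra D C] [CommRing O] [Algebra D O] :
    IsPullback (spm (Algebra.TensorProduct.includeRight : C →ₐ[D] O ⊗[D] C).toRingHom)
      (spm (algebraMap O (O ⊗[D] C))) (spm (algebraMap D C)) (spm (algebraMap D O)) :=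
  (isPullback_SpecMap_of_isPushout _ _ _ _ (CommRingCat.isPushout_tensorProduct D O C)).flip

theorem exists_sigma (ε : O ⊗[D] C →+* B) :
    ∃ σ : Spec (CommRingCat.of B) ⟶ pullback (spm (algebraMap D C)) (spm (algebraMap D O)),
      σ ≫ pullback.fst _ _ = spm (fromC ε) ∧ σ ≫ pullback.snd _ _ = spm (fromO ε) ∧
      ∀ [IsLocalRing B], IsStrictLoc (spm ε) → IsStrictLoc σ := by
  let e := (isPullback_tensor D C O).isoPullback
  refine ⟨spm ε ≫ e.hom, ?_, ?_, fun h => h.comp e.hom⟩
  · rw [Category.assoc, IsPullback.isoPullback_hom_fst, ← spm_comp]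
  · rw [Category.assoc, IsPullback.isoPullback_hom_snd, ← spm_comp]

theorem exists_eps (σ : Spec (CommRingCat.of B) ⟶ pullback (spm (algebraMap D C)) (spm (algebraMap D O))) :
    ∃ ε : O ⊗[D] C →+* B, σ ≫ pullback.fst _ _ = spm (fromC ε) ∧ σ ≫ pullback.snd _ _ = spm (fromO ε) ∧
      ∀ [IsLocalRing B], IsStrictLoc σ → IsStrictLoc (spm ε) := by
  let e := (isPullback_tensor D C O).isoPullback
  let ε : O ⊗[D] C →+* B := (Spec.preimage (σ ≫ e.inv)).hom
  have hε : spm ε = σ ≫ e.inv := Spec.map_preimage _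
  refine ⟨ε, ?_, ?_, fun h => ?_⟩
  · rw [spm_comp, hε, Category.assoc, IsPullback.isoPullback_inv_fst]
  · rw [spm_comp, hε, Category.assoc, IsPullback.isoPullback_inv_snd]
  · rw [hε]
    exact h.comp e.inv

end

/-- The Milnor fibre as the spectrum of a localization. -/
theorem exists_iso {O B : Type u} [CommRing O] [CommRing B] [IsDomain O] (β : O →+* B)
    (Ω : Type u) [Field Ω] [Algebra O Ω] [IsFractionRing O Ω] (L : Type u) [CommRing L] [Algebra B L]
    [IsLocalization ((nonZeroDivisors O).map β) L] :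
    Nonempty (Spec (CommRingCat.of L) ≅ pullback (spm β) (spm (algebraMap O Ω))) := by
  have hu : ∀ y : nonZeroDivisors O, IsUnit (((algebraMap B L).comp β) y) := fun y =>
    IsLocalization.map_units L (⟨β y, y, y.2, rfl⟩ : (nonZeroDivisors O).map β)
  let fₘ : Ω →+* L := IsLocalization.lift (M := nonZeroDivisors O) (S := Ω) hu
  have h := CommRingCat.isPushout_of_isLocalization β fₘ (IsLocalization.lift_comp hu) (nonZeroDivisors O)
  exact ⟨(isPullback_SpecMap_of_isPushout _ _ _ _ h).isoPullback⟩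

section

variable {D C O B : Type u} [CommRing D] [CommRing C] [Algebra D C] [CommRing O] [Algebra D O]
  [CommRing B] [IsLocalRing B]

theorem algOver_frac (O Ω : Type u) [CommRing O] [IsDomain O] [Field Ω] [Algebra O Ω] [IsFractionRing O Ω] :
    AlgOver (algebraMap O Ω) := by
  intro y
  obtain ⟨a, b, hb, rfl⟩ := IsFractionRing.div_surjective (A := O) y
  have hb' : algebraMap O Ω b ≠ 0 := IsFractionRing.to_map_ne_zero_of_mem_nonZeroDivisors hb
  refine ⟨Polynomial.C b * Polynomial.X - Polynomial.C a, ?_, ?_⟩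
  · intro h0
    have h1 := congrArg (fun p => Polynomial.coeff p 1) h0
    simp at h1
    exact hb' (by simpa using h1)
  · simp [mul_div_cancel₀ _ hb']

/-- From local asphericity to the ring form. -/
theorem nc_of_asphAt {n : ℕ} (hO : TP O) (hn : IsUnit (n : O)) (ε : O ⊗[D] C →+* B) (hε : IsStrictLoc (spm ε))
    (hl : IsLocalHom (fromO ε))
    (h : AsphAt n (spm (algebraMap D C)) (spm (fromC ε) (closedPoint B)))
    (L : Type u) [CommRing L] [Algebra B L] [IsLocalization ((nonZeroDivisors O).map (fromO ε)) L] :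
    NC n (Spec (CommRingCat.of L)) := by
  have hd := hO.isDomain
  obtain ⟨σ, h1, h2, h3⟩ := exists_sigma ε
  let Ω := FractionRing O
  have hΩ : IsAlgClosed Ω := (TPLoc.isAIC hO).isAlgClosed (nonZeroDivisors O)
  have hΩ' : IsSepClosed Ω := inferInstance
  obtain ⟨e⟩ := exists_iso (fromO ε) Ω L
  obtain ⟨i1, i2⟩ := TPLoc.isStrictlyHenselian hO
  refine FEtAlg.nc_of_iso e (h O B i1 i2 hn (spm (algebraMap D O)) σ (h3 hε) (by rw [h1]) (fromO ε) hl h2 Ω
    (algebraMap O Ω) (algOver_frac O Ω))

/-- From the ring form to local asphericity for test bases. -/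
theorem lApAt_of {D C : Type u} [CommRing D] [CommRing C] [Algebra D C] {n : ℕ} (x : Spec (CommRingCat.of C))
    (h : ∀ (O B L : Type u) [CommRing O] [IsLocalRing O] [CommRing B] [IsLocalRing B] [CommRing L] [Algebra B L]
      [Algebra D O] (_ : TP O) (_ : IsUnit (n : O)) (ε : O ⊗[D] C →+* B) (_ : IsStrictLoc (spm ε))
      (_ : IsLocalHom (fromO ε)) (_ : spm (fromC ε) (closedPoint B) = x)
      [IsLocalization ((nonZeroDivisors O).map (fromO ε)) L], NC n (Spec (CommRingCat.of L))) :
    LApAt n (spm (algebraMap D C)) x := by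
  intro O B _ _ _ _ hO hn t σ hσ hx β hβ hc Ω _ _ _
  have hd := hO.isDomain
  obtain ⟨τ, rfl⟩ : ∃ τ : D →+* O, spm τ = t := ⟨(Spec.preimage t).hom, Spec.map_preimage t⟩
  let _ : Algebra D O := τ.toAlgebra
  obtain ⟨ε, h1, h2, h3⟩ := exists_eps (D := D) (C := C) (O := O) σ
  have h4 : fromO ε = β := by
    rw [← spm_inj, ← h2]
    exact hc
  subst h4
  let L := Localization ((nonZeroDivisors O).map (fromO ε))
  obtain ⟨e⟩ := exists_iso (fromO ε) Ω L
  refine FEtAlg.nc_of_iso e.symm (h O B L hO hn ε (h3 hσ) hβ ?_)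
  rw [← h1]
  exact hx

/-- The generic Milnor fibre of a good morphism is connected. -/
theorem connectedSpace_of_isGood (hO : TP O) (ε : O ⊗[D] C →+* B) (hε : IsStrictLoc (spm ε))
    (hl : IsLocalHom (fromO ε)) (h : K548.Good.IsGood (spm (algebraMap D C)))
    (L : Type u) [CommRing L] [Algebra B L] [IsLocalization ((nonZeroDivisors O).map (fromO ε)) L] :
    ConnectedSpace (PrimeSpectrum L) := by
  have hd := hO.isDomain
  obtain ⟨σ, h1, h2, h3⟩ := exists_sigma ε
  let Ω := FractionRing O
  have hΩ : IsAlgClosed Ω := (TPLoc.isAIC hO).isAlgClosed (nonZeroDivisors O)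
  have hΩ' : IsSepClosed Ω := inferInstance
  obtain ⟨e⟩ := exists_iso (fromO ε) Ω L
  obtain ⟨i1, i2⟩ := TPLoc.isStrictlyHenselian hO
  obtain ⟨-, h5⟩ := h (pullback.snd (spm (algebraMap D C)) (spm (algebraMap D O)))
    (pullback.fst (spm (algebraMap D C)) (spm (algebraMap D O))) (spm (algebraMap D O))
    (IsPullback.of_hasPullback _ _) O B (𝟙 _) σ (isStrictLoc_id O) (h3 hε) (fromO ε) hl
    (by rw [Category.comp_id, h2])
  have h6 := K548.Good.connectedSpace_pullback_right h5 Ω (spm (algebraMap O Ω))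
  exact (Scheme.homeoOfIso e.symm).surjective.connectedSpace (Scheme.homeoOfIso e.symm).continuous

end

end K168.RingForm
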