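import Groth.Agent.EtAcyc.K168.AsphDef
import Groth.Agent.S0202
import Groth.Agent.Flat2E.AIC1
import Mathlib.RingTheory.Ideal.KrullsHeightTheorem
import Mathlib.RingTheory.Ideal.GoingUp

/-!
# Test rings: localizations and the rank
-/

set_option autoImplicit false
universe u

open IsLocalRing CategoryTheory AlgebraicGeometry

namespace K168.TPLoc

open AsphDef Groth.Agent.Flat2E.AIC1

variable {O : Type u} [CommRing O]

theorem isAIC (h : TP O) : IsAIC O := fun p hp hd => h.aic p hp (Nat.pos_of_ne_zero hd)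

theorem isIntegrallyClosed (h : TP O) : IsIntegrallyClosed O := by
  have := h.isDomain
  exact (isAIC h).isIntegrallyClosed

theorem isStrictlyHenselian (h : TP O) : EtCoh.IsStrictlyHenselianLocalRing O := by
  have := h.isLocal
  exact Groth.Agent.S0202.isStrictlyHenselian (isAIC h)

/-- `C₀` is a model of `O`. -/
structure Mod (C₀ : Subring O) : Prop where
  ft : Algebra.FiniteType ℤ C₀
  frac : ∀ x : O, ∃ s a : O, IsIntegral C₀ s ∧ IsIntegral C₀ a ∧ IsUnit s ∧ s * x = a

/-- Test rings of bounded rank. -/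
def Rk (O : Type u) [CommRing O] [IsLocalRing O] (k : ℕ) : Prop :=
  ∃ C₀ : Subring O, Mod C₀ ∧ (Ideal.comap C₀.subtype (maximalIdeal O)).height < k

theorem exists_rk (h : TP O) [IsLocalRing O] : ∃ k, Rk O k := by
  obtain ⟨C₀, h1, h2⟩ := h.model
  have hN : IsNoetherianRing C₀ := Algebra.FiniteType.isNoetherianRing ℤ _
  have h3 : (Ideal.comap C₀.subtype (maximalIdeal O)).height ≠ ⊤ := Ideal.height_ne_top (Ideal.IsPrime.ne_top inferInstance)
  obtain ⟨k, hk⟩ := ENat.ne_top_iff_exists.1 h3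
  refine ⟨k + 1, C₀, ⟨h1, h2⟩, ?_⟩
  rw [← hk]
  exact_mod_cast Nat.lt_succ_self k

theorem not_rk_zero [IsLocalRing O] : ¬ Rk O 0 := by
  rintro ⟨C₀, -, h⟩
  simp at h

theorem mod_map [IsDomain O] {C₀ : Subring O} (h : Mod C₀) (q : Ideal O) [q.IsPrime] :
    Mod (C₀.map (algebraMap O (Localization.AtPrime q))) := by
  let O' := Localization.AtPrime q
  let C₁ := C₀.map (algebraMap O O')
  let φ : C₀ →+* C₁ := ((algebraMap O O').comp C₀.subtype).codRestrict C₁ (fun x => ⟨x, x.2, rfl⟩)
  have hφ : Function.Surjective φ := by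
    rintro ⟨_, x, hx, rfl⟩
    exact ⟨⟨x, hx⟩, rfl⟩
  have hint : ∀ x : O, IsIntegral C₀ x → IsIntegral C₁ (algebraMap O O' x) := fun x hx =>
    hx.map_of_comp_eq φ (algebraMap O O') rfl
  refine ⟨?_, ?_⟩
  · have := h.ft
    exact Algebra.FiniteType.of_surjective (R := ℤ) φ.toIntAlgHom hφ
  · intro x
    obtain ⟨a, ⟨t, ht⟩, rfl⟩ := IsLocalization.exists_mk'_eq q.primeCompl x
    obtain ⟨s1, a1, h1, h2, h3, h4⟩ := h.frac a
    obtain ⟨s2, t2, h5, h6, h7, h8⟩ := h.frac t
    have hs2 : IsUnit (algebraMap O O' s1) := h3.map _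
    have ht2 : IsUnit (algebraMap O O' t2) := by
      rw [← h8]
      exact IsLocalization.map_units O' (⟨s2 * t, q.primeCompl.mul_mem
        (fun hs => Ideal.IsPrime.ne_top inferInstance (Ideal.eq_top_of_isUnit_mem q hs h7)) ht⟩ : q.primeCompl)
    refine ⟨algebraMap O O' (s1 * t2), algebraMap O O' (s2 * a1), hint _ (h1.mul h6), hint _ (h5.mul h2), ?_, ?_⟩
    · rw [map_mul]
      exact hs2.mul ht2
    · rw [← h4, ← h8]
      have h9 : algebraMap O O' t * IsLocalization.mk' O' a (⟨t, ht⟩ : q.primeCompl) = algebraMap O O' a :=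
        IsLocalization.mk'_spec' O' a (⟨t, ht⟩ : q.primeCompl)
      rw [map_mul, map_mul, map_mul, map_mul, ← h9]
      ring

theorem tp_loc (h : TP O) (q : Ideal O) [q.IsPrime] : TP (Localization.AtPrime q) := by
  have := h.isDomain
  obtain ⟨C₀, h1, h2⟩ := h.model
  have h3 := mod_map (C₀ := C₀) ⟨h1, h2⟩ q
  have h4 : IsAIC (Localization.AtPrime q) := (isAIC h).of_isLocalization q.primeCompl
  exact ⟨IsLocalization.isDomain_of_le_nonZeroDivisors _ q.primeCompl_le_nonZeroDivisors, inferInstance,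
    fun p hp hd => h4 p hp hd.ne', _, h3.ft, h3.frac⟩

theorem rk_loc [IsLocalRing O] [IsDomain O] {k : ℕ} (hk : Rk O (k + 1)) (q : Ideal O) [q.IsPrime]
    (hq : q ≠ maximalIdeal O) : Rk (Localization.AtPrime q) k := by
  obtain ⟨C₀, h, hlt⟩ := hk
  let O' := Localization.AtPrime q
  let C₁ := C₀.map (algebraMap O O')
  have hinj : Function.Injective (algebraMap O O') := IsLocalization.injective _ q.primeCompl_le_nonZeroDivisors
  refine ⟨C₁, mod_map h q, ?_⟩
  have hft := h.ft
  have hN : IsNoetherianRing C₀ := Algebra.FiniteType.isNoetherianRing ℤ _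
  let e : C₀ ≃+* C₁ := C₀.equivMapOfInjective (algebraMap O O') hinj
  rw [← RingEquiv.height_comap e]
  have h1 : Ideal.comap e (Ideal.comap C₁.subtype (maximalIdeal O')) = Ideal.comap C₀.subtype q := by
    have h0 : Ideal.comap (algebraMap O O') (maximalIdeal O') = q := Localization.AtPrime.under_maximalIdeal
    ext z
    have h0' : (z : O) ∈ Ideal.comap (algebraMap O O') (maximalIdeal O') ↔ (z : O) ∈ q := by rw [h0]
    exact h0'
  rw [h1]
  have h2 : Ideal.comap C₀.subtype q < Ideal.comap C₀.subtype (maximalIdeal O) := by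
    obtain ⟨x, hx, hxq⟩ := SetLike.exists_of_lt
      (lt_of_le_of_ne (IsLocalRing.le_maximalIdeal (Ideal.IsPrime.ne_top (I := q) inferInstance)) hq :
        q < maximalIdeal O)
    obtain ⟨s, a, h3, h4, h5, h6⟩ := h.frac x
    refine Ideal.comap_lt_comap_of_integral_mem_sdiff (R := C₀) (S := O) (I := q) (J := maximalIdeal O)
      (IsLocalRing.le_maximalIdeal (Ideal.IsPrime.ne_top inferInstance)) (x := a) ⟨?_, ?_⟩ h4
    · rw [← h6]
      exact Ideal.mul_mem_left _ _ hx
    · rw [← h6]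
      intro h7
      rcases Ideal.IsPrime.mem_or_mem inferInstance h7 with h8 | h8
      · exact Ideal.IsPrime.ne_top inferInstance (Ideal.eq_top_of_isUnit_mem q h8 h5)
      · exact hxq h8
  have h3 := Ideal.height_strict_mono_of_isPrime_of_isPrime h2
  have h4 : (Ideal.comap C₀.subtype (maximalIdeal O)).height ≤ k := by
    exact ENat.lt_natCast_add_one_iff.1 (by simpa using hlt)
  exact lt_of_lt_of_le h3 h4

end K168.TPLoc
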